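import Mathlib
import Groth.Prelude.Def_W4c5ffgsreadingcourseOT
import Groth.Agent.Lib.Helper9.FinHopf.KillOrder

/-!
# Oort–Tate: power maps `[n]` of a commutative Hopf algebra (helper9)
-/

set_option autoImplicit false
set_option linter.unusedSectionVars false

universe u v

open TensorProduct WithConv

namespace Groth.Agent.H9.OT

open Groth.Agent.H9.FinHopf

section Basic

variable (R : Type u) [CommRing R] (A : Type v) [CommRing A] [HopfAlgebra R A]

/-- the `n`-th power map -/
noncomputable abbrev pw (n : ℕ) : A →ₐ[R] A :=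
  ((toConv (AlgHom.id R A) : WithConv (A →ₐ[R] A)) ^ n).ofConv

lemma pw_zero : pw R A 0 = (Algebra.ofId R A).comp (Bialgebra.counitAlgHom R A) := by
  unfold pw
  rw [pow_zero]
  rfl

lemma pw_zero_apply (a : A) : pw R A 0 a = algebraMap R A (CoalgebraStruct.counit (R := R) a) := by
  rw [pw_zero]
  rfl

lemma pw_one : pw R A 1 = AlgHom.id R A := by
  unfold pw
  rw [pow_one]

lemma pw_add (m n : ℕ) :
    pw R A (m + n) = ((toConv (pw R A m) : WithConv (A →ₐ[R] A)) * toConv (pw R A n)).ofConv := by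
  unfold pw
  rw [pow_add]

lemma pw_comp (m n : ℕ) : (pw R A m).comp (pw R A n) = pw R A (m * n) := by
  unfold pw
  rw [comp_convPow (pw R A m) (toConv (AlgHom.id R A)) n, pow_mul]
  rfl

lemma pw_pw (m n : ℕ) (a : A) : pw R A m (pw R A n a) = pw R A (m * n) a := by
  rw [← pw_comp]
  rfl

lemma pw_comm (m n : ℕ) (a : A) : pw R A m (pw R A n a) = pw R A n (pw R A m a) := by
  rw [pw_pw, pw_pw, mul_comm]

lemma counit_pw (n : ℕ) (a : A) :
    CoalgebraStruct.counit (R := R) (pw R A n a) = CoalgebraStruct.counit (R := R) a := by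
  have h := comp_convPow (Bialgebra.counitAlgHom R A) (toConv (AlgHom.id R A)) n
  have h1 : (toConv ((Bialgebra.counitAlgHom R A).comp (toConv (AlgHom.id R A)).ofConv) :
      WithConv (A →ₐ[R] R)) = 1 := by
    apply WithConv.ofConv_injective
    apply AlgHom.ext
    intro x
    rfl
  rw [h1, one_pow] at h
  have h2 := AlgHom.congr_fun h a
  exact h2

lemma pw_algebraMap (n : ℕ) (r : R) : pw R A n (algebraMap R A r) = algebraMap R A r :=
  (pw R A n).commutes r

variable {R A}

lemma pw_add_mul (p : ℕ) (hp : (toConv (AlgHom.id R A) : WithConv (A →ₐ[R] A)) ^ p = 1)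
    (n k : ℕ) : pw R A (n + p * k) = pw R A n := by
  unfold pw
  rw [pow_add, pow_mul, hp, one_pow, mul_one]

lemma pw_congr (p : ℕ) (hp : (toConv (AlgHom.id R A) : WithConv (A →ₐ[R] A)) ^ p = 1)
    {m n : ℕ} (h : m ≡ n [MOD p]) : pw R A m = pw R A n := by
  have hm : m = m % p + p * (m / p) := (Nat.mod_add_div m p).symm
  have hn : n = n % p + p * (n / p) := (Nat.mod_add_div n p).symm
  rw [hm, hn, pw_add_mul p hp, pw_add_mul p hp]
  have : m % p = n % p := h
  rw [this]

end Basic

section Units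

variable {R : Type u} [CommRing R] {A : Type v} [CommRing A] [HopfAlgebra R A]
  (p : ℕ) [Fact p.Prime]

/-- the action of the units of `ZMod p` on `A` by power maps, when `G` is killed by `p` -/
noncomputable def rho (hp : (toConv (AlgHom.id R A) : WithConv (A →ₐ[R] A)) ^ p = 1) :
    (ZMod p)ˣ →* Module.End R A where
  toFun m := (pw R A (m : ZMod p).val).toLinearMap
  map_one' := by
    have h1 : ((1 : (ZMod p)ˣ) : ZMod p).val = 1 := by
      rw [Units.val_one, ZMod.val_one]
    rw [h1, pw_one]
    rfl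
  map_mul' m m' := by
    have h : ((m * m' : (ZMod p)ˣ) : ZMod p).val ≡ (m : ZMod p).val * (m' : ZMod p).val [MOD p] := by
      rw [Units.val_mul, ZMod.val_mul]
      exact Nat.mod_modEq _ _
    rw [pw_congr p hp h, ← pw_comp]
    rfl

lemma rho_apply (hp : (toConv (AlgHom.id R A) : WithConv (A →ₐ[R] A)) ^ p = 1) (m : (ZMod p)ˣ)
    (a : A) : rho p hp m a = pw R A (m : ZMod p).val a := rfl

end Units

end Groth.Agent.H9.OT
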