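import Mathlib
import Groth.Agent.Lib.Helper9.OT.Pow

/-!
# Oort–Tate: eigenspace decomposition of the augmentation ideal (helper9)
-/

set_option autoImplicit false
set_option linter.unusedSectionVars false

universe u v

open TensorProduct WithConv

namespace Groth.Agent.H9.OT

section GroupAlg

variable {R : Type u} [CommRing R] (p : ℕ) [Fact p.Prime] (u : R) (χ : (ZMod p)ˣ →* Rˣ)

/-- the averaging idempotent `e_i` -/
noncomputable def eI (i : ℕ) : MonoidAlgebra R (ZMod p)ˣ :=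
  u • ∑ m : (ZMod p)ˣ, ((χ m⁻¹ : Rˣ) : R) ^ i • MonoidAlgebra.of R (ZMod p)ˣ m

lemma chi_pow_card (m : (ZMod p)ˣ) : ((χ m : Rˣ) : R) ^ (p - 1) = 1 := by
  rw [← Units.val_pow_eq_pow_val, ← map_pow, ← ZMod.card_units p, pow_card_eq_one, map_one,
    Units.val_one]

lemma chi_pow_mod (m : (ZMod p)ˣ) (i : ℕ) :
    ((χ m : Rˣ) : R) ^ i = ((χ m : Rˣ) : R) ^ (i % (p - 1)) := by
  conv_lhs => rw [← Nat.mod_add_div i (p - 1), pow_add, pow_mul, chi_pow_card, one_pow, mul_one]

lemma eI_mod (i : ℕ) : eI p u χ i = eI p u χ (i % (p - 1)) := by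
  unfold eI
  congr 1
  apply Finset.sum_congr rfl
  intro m _
  rw [chi_pow_mod]

lemma of_mul_eI (m : (ZMod p)ˣ) (i : ℕ) :
    MonoidAlgebra.of R (ZMod p)ˣ m * eI p u χ i = ((χ m : Rˣ) : R) ^ i • eI p u χ i := by
  unfold eI
  rw [mul_smul_comm, smul_comm (((χ m : Rˣ) : R) ^ i) u]
  congr 1
  rw [Finset.mul_sum, Finset.smul_sum]
  apply Fintype.sum_equiv (Equiv.mulLeft m)
  intro t
  simp only [Equiv.coe_mulLeft]
  rw [mul_smul_comm, ← map_mul, smul_smul]
  congr 1
  rw [← mul_pow, ← Units.val_mul, ← map_mul, mul_inv_rev, mul_comm t⁻¹, mul_inv_cancel_left]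

theorem eI_coi (hu : u * ((p - 1 : ℕ) : R) = 1)
    (hχ : ∀ m : (ZMod p)ˣ, m ≠ 1 → IsUnit ((χ m : R) - 1)) :
    CompleteOrthogonalIdempotents (fun i : Fin (p - 1) => eI p u χ (i : ℕ)) := by
  classical
  unfold eI
  rw [CompleteOrthogonalIdempotents.iff_ortho_complete]
  have hcard : Fintype.card (ZMod p)ˣ = p - 1 := ZMod.card_units p
  have hL : ∀ d : ℤ, ¬ (((p - 1 : ℕ) : ℤ) ∣ d) →
      ∑ m : (ZMod p)ˣ, (((χ m) ^ d : Rˣ) : R) = 0 := by
    intro d hd
    obtain ⟨g, hg⟩ := IsCyclic.exists_generator (α := (ZMod p)ˣ)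
    have hord : orderOf g = p - 1 := by
      rw [orderOf_eq_card_of_forall_mem_zpowers hg, Nat.card_eq_fintype_card, hcard]
    have hgd : g ^ d ≠ 1 := by
      intro h
      apply hd
      rw [← hord]
      exact orderOf_dvd_iff_zpow_eq_one.mpr h
    have hw := hχ (g ^ d) hgd
    have hsum : ∑ m : (ZMod p)ˣ, (((χ m) ^ d : Rˣ) : R) =
        ((χ (g ^ d) : Rˣ) : R) * ∑ m : (ZMod p)ˣ, (((χ m) ^ d : Rˣ) : R) := by
      rw [Finset.mul_sum]
      symm
      apply Fintype.sum_equiv (Equiv.mulLeft g)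
      intro m
      simp only [Equiv.coe_mulLeft, map_mul, map_zpow, mul_zpow, Units.val_mul]
    have h0 : (((χ (g ^ d) : Rˣ) : R) - 1) * ∑ m : (ZMod p)ˣ, (((χ m) ^ d : Rˣ) : R) = 0 := by
      rw [sub_mul, one_mul, ← hsum, sub_self]
    exact (hw.mul_right_eq_zero).mp h0
  have hmul : ∀ i j : ℕ,
      (∑ m : (ZMod p)ˣ, ((χ m⁻¹ : Rˣ) : R) ^ i • MonoidAlgebra.of R (ZMod p)ˣ m) *
        (∑ m : (ZMod p)ˣ, ((χ m⁻¹ : Rˣ) : R) ^ j • MonoidAlgebra.of R (ZMod p)ˣ m) =
      (∑ m : (ZMod p)ˣ, (((χ m) ^ ((j : ℤ) - i) : Rˣ) : R)) •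
        (∑ m : (ZMod p)ˣ, ((χ m⁻¹ : Rˣ) : R) ^ j • MonoidAlgebra.of R (ZMod p)ˣ m) := by
    intro i j
    rw [Finset.sum_mul_sum]
    have step1 : ∀ m : (ZMod p)ˣ,
        ∑ m' : (ZMod p)ˣ, (((χ m⁻¹ : Rˣ) : R) ^ i • MonoidAlgebra.of R (ZMod p)ˣ m) *
          (((χ m'⁻¹ : Rˣ) : R) ^ j • MonoidAlgebra.of R (ZMod p)ˣ m') =
        ∑ t : (ZMod p)ˣ, ((((χ m) ^ ((j : ℤ) - i) : Rˣ) : R) * ((χ t⁻¹ : Rˣ) : R) ^ j) •
          MonoidAlgebra.of R (ZMod p)ˣ t := by
      intro m
      symm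
      apply Fintype.sum_equiv (Equiv.mulLeft m⁻¹)
      intro t
      simp only [Equiv.coe_mulLeft]
      symm
      rw [smul_mul_smul_comm, ← map_mul, mul_inv_cancel_left]
      congr 1
      rw [← Units.val_pow_eq_pow_val, ← Units.val_pow_eq_pow_val, ← Units.val_pow_eq_pow_val,
        ← Units.val_mul, ← Units.val_mul]
      congr 1
      simp only [map_mul, map_inv, mul_inv_rev, inv_inv, mul_pow, zpow_sub, zpow_natCast, inv_pow]
      simp only [mul_comm, mul_left_comm, mul_assoc]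
    rw [Finset.sum_congr rfl (fun m _ => step1 m), Finset.sum_smul]
    apply Finset.sum_congr rfl
    intro m _
    rw [Finset.smul_sum]
    apply Finset.sum_congr rfl
    intro t _
    rw [smul_smul]
  constructor
  · intro i j hij
    rw [smul_mul_smul_comm, hmul]
    have hd : ¬ (((p - 1 : ℕ) : ℤ) ∣ ((j : ℕ) : ℤ) - ((i : ℕ) : ℤ)) := by
      intro hdvd
      have habs : |((j : ℕ) : ℤ) - ((i : ℕ) : ℤ)| < ((p - 1 : ℕ) : ℤ) := by
        have h1 := i.2
        have h2 := j.2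
        rw [abs_lt]
        constructor <;> omega
      have := Int.eq_zero_of_abs_lt_dvd hdvd habs
      apply hij
      apply Fin.ext
      omega
    rw [hL _ hd, zero_smul, smul_zero]
  · rw [← Finset.smul_sum, Finset.sum_comm]
    have hinner : ∀ m : (ZMod p)ˣ,
        ∑ i : Fin (p - 1), ((χ m⁻¹ : Rˣ) : R) ^ (i : ℕ) • MonoidAlgebra.of R (ZMod p)ˣ m =
        (if m = 1 then ((p - 1 : ℕ) : R) else 0) • MonoidAlgebra.of R (ZMod p)ˣ m := by
      intro m
      rw [← Finset.sum_smul]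
      congr 1
      rw [Fin.sum_univ_eq_sum_range (fun i => ((χ m⁻¹ : Rˣ) : R) ^ i) (p - 1)]
      split_ifs with hm
      · subst hm
        simp
      · have hm' : m⁻¹ ≠ 1 := by simpa using hm
        have hunit := hχ m⁻¹ hm'
        have hgeom := geom_sum_mul (((χ m⁻¹ : Rˣ) : R)) (p - 1)
        have hpow : ((χ m⁻¹ : Rˣ) : R) ^ (p - 1) = 1 := chi_pow_card p χ m⁻¹
        rw [hpow, sub_self] at hgeom
        exact (hunit.mul_left_eq_zero).mp hgeom
    rw [Finset.sum_congr rfl (fun m _ => hinner m)]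
    rw [Finset.sum_eq_single (1 : (ZMod p)ˣ)]
    · rw [if_pos rfl, smul_smul, hu, map_one, one_smul]
    · intro m _ hm
      rw [if_neg hm, zero_smul]
    · intro h
      exact absurd (Finset.mem_univ _) h

end GroupAlg

section Action

variable {R : Type u} [CommRing R] (A : Type u) [CommRing A] [HopfAlgebra R A]
  (p : ℕ) [Fact p.Prime] (u : R) (χ : (ZMod p)ˣ →* Rˣ)
  (hp : (toConv (AlgHom.id R A) : WithConv (A →ₐ[R] A)) ^ p = 1)

/-- the algebra map `R[(ℤ/p)ˣ] → End_R A` induced by the power maps -/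
noncomputable def rhoAlg : MonoidAlgebra R (ZMod p)ˣ →ₐ[R] Module.End R A :=
  MonoidAlgebra.lift R (Module.End R A) (ZMod p)ˣ (rho p hp)

lemma rhoAlg_of (m : (ZMod p)ˣ) :
    rhoAlg A p hp (MonoidAlgebra.of R (ZMod p)ˣ m) = (pw R A (m : ZMod p).val).toLinearMap := by
  unfold rhoAlg
  rw [MonoidAlgebra.lift_of]
  rfl

lemma proj_eq (i : ℕ) : OortTate.proj R A p u χ i = rhoAlg A p hp (eI p u χ i) := by
  unfold OortTate.proj eI
  rw [map_smul, map_sum]
  congr 1
  apply Finset.sum_congr rfl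
  intro m _
  rw [map_smul, rhoAlg_of]
  rfl

include hp in
lemma proj_mod (i : ℕ) : OortTate.proj R A p u χ i = OortTate.proj R A p u χ (i % (p - 1)) := by
  rw [proj_eq A p u χ hp, proj_eq A p u χ hp, ← eI_mod]

include hp in
lemma pw_proj (m : (ZMod p)ˣ) (i : ℕ) (a : A) :
    pw R A (m : ZMod p).val (OortTate.proj R A p u χ i a) =
      ((χ m : Rˣ) : R) ^ i • OortTate.proj R A p u χ i a := by
  have h := congrArg (rhoAlg A p hp) (of_mul_eI p u χ m i)
  rw [map_mul, map_smul, rhoAlg_of, ← proj_eq] at h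
  exact LinearMap.congr_fun h a

lemma proj_apply (i : ℕ) (a : A) :
    OortTate.proj R A p u χ i a =
      u • ∑ m : (ZMod p)ˣ, ((χ m⁻¹ : Rˣ) : R) ^ i • pw R A (m : ZMod p).val a := by
  unfold OortTate.proj
  rw [LinearMap.smul_apply, LinearMap.sum_apply]
  rfl

lemma proj_pw (n : ℕ) (i : ℕ) (a : A) :
    OortTate.proj R A p u χ i (pw R A n a) = pw R A n (OortTate.proj R A p u χ i a) := by
  rw [proj_apply, proj_apply, map_smul, map_sum]
  congr 1
  apply Finset.sum_congr rfl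
  intro m _
  rw [map_smul, pw_comm]

lemma proj_algebraMap (i : ℕ) (r : R) :
    OortTate.proj R A p u χ i (algebraMap R A r) =
      (u * ∑ m : (ZMod p)ˣ, ((χ m⁻¹ : Rˣ) : R) ^ i) • algebraMap R A r := by
  rw [proj_apply, mul_smul, Finset.sum_smul]
  congr 1
  apply Finset.sum_congr rfl
  intro m _
  rw [pw_algebraMap]

lemma counit_proj (i : ℕ) (a : A) :
    CoalgebraStruct.counit (R := R) (OortTate.proj R A p u χ i a) =
      (u * ∑ m : (ZMod p)ˣ, ((χ m⁻¹ : Rˣ) : R) ^ i) * CoalgebraStruct.counit (R := R) a := by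
  rw [proj_apply, map_smul, map_sum, smul_eq_mul, mul_assoc, Finset.sum_mul]
  congr 1
  apply Finset.sum_congr rfl
  intro m _
  rw [map_smul, counit_pw, smul_eq_mul]

variable (hu : u * ((p - 1 : ℕ) : R) = 1)

include hu in
lemma proj_eq_self_of_eigen (i : ℕ) (a : A)
    (h : ∀ m : (ZMod p)ˣ, pw R A (m : ZMod p).val a = ((χ m : Rˣ) : R) ^ i • a) :
    OortTate.proj R A p u χ i a = a := by
  rw [proj_apply]
  have h1 : ∀ m : (ZMod p)ˣ, ((χ m⁻¹ : Rˣ) : R) ^ i • pw R A (m : ZMod p).val a = a := by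
    intro m
    rw [h m, smul_smul, ← mul_pow, ← Units.val_mul, ← map_mul, inv_mul_cancel, map_one,
      Units.val_one, one_pow, one_smul]
  rw [Finset.sum_congr rfl (fun m _ => h1 m), Finset.sum_const, Finset.card_univ,
    ZMod.card_units p, ← Nat.cast_smul_eq_nsmul R, smul_smul, hu, one_smul]

variable (hχ : ∀ m : (ZMod p)ˣ, m ≠ 1 → IsUnit ((χ m : R) - 1))

include hp hu hχ in
lemma proj_coi :
    CompleteOrthogonalIdempotents (fun i : Fin (p - 1) => OortTate.proj R A p u χ (i : ℕ)) := by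
  have h := (eI_coi p u χ hu hχ).map (rhoAlg A p hp).toRingHom
  have h2 : (fun i : Fin (p - 1) => OortTate.proj R A p u χ (i : ℕ)) =
      (rhoAlg A p hp).toRingHom ∘ (fun i : Fin (p - 1) => eI p u χ (i : ℕ)) := by
    funext i
    exact proj_eq A p u χ hp i
  rw [h2]
  exact h

include hp hu hχ in
lemma proj_idem (i : ℕ) (a : A) :
    OortTate.proj R A p u χ i (OortTate.proj R A p u χ i a) = OortTate.proj R A p u χ i a := by
  have hpos : 0 < p - 1 := Nat.sub_pos_of_lt (Fact.out : p.Prime).one_lt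
  rw [proj_mod A p u χ hp i]
  have h := (proj_coi A p u χ hp hu hχ).idem ⟨i % (p - 1), Nat.mod_lt _ hpos⟩
  exact LinearMap.congr_fun h a

include hp hu hχ in
lemma proj_ortho (i j : Fin (p - 1)) (hij : i ≠ j) (a : A) :
    OortTate.proj R A p u χ (i : ℕ) (OortTate.proj R A p u χ (j : ℕ) a) = 0 := by
  have h := (proj_coi A p u χ hp hu hχ).ortho hij
  exact LinearMap.congr_fun h a

include hp hu hχ in
lemma sum_proj (a : A) : ∑ i : Fin (p - 1), OortTate.proj R A p u χ (i : ℕ) a = a := by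
  have h := (proj_coi A p u χ hp hu hχ).complete
  have h2 := LinearMap.congr_fun h a
  rw [LinearMap.sum_apply] at h2
  exact h2

include hp hu in
lemma mem_eigenAug_iff (i : ℕ) (a : A) :
    a ∈ OortTate.eigenAug R A p χ i ↔
      CoalgebraStruct.counit (R := R) a = 0 ∧ OortTate.proj R A p u χ i a = a := by
  unfold OortTate.eigenAug
  rw [Submodule.mem_inf, Submodule.mem_iInf, LinearMap.mem_ker]
  constructor
  · rintro ⟨h1, h2⟩
    refine ⟨h1, proj_eq_self_of_eigen A p u χ hu i a ?_⟩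
    intro m
    exact Module.End.mem_eigenspace_iff.mp (h2 m)
  · rintro ⟨h1, h2⟩
    refine ⟨h1, ?_⟩
    intro m
    rw [Module.End.mem_eigenspace_iff, ← h2]
    exact pw_proj A p u χ hp m i a

include hp hu hχ in
lemma proj_mem_eigenAug (i : ℕ) (a : A) (ha : CoalgebraStruct.counit (R := R) a = 0) :
    OortTate.proj R A p u χ i a ∈ OortTate.eigenAug R A p χ i := by
  rw [mem_eigenAug_iff A p u χ hp hu]
  refine ⟨?_, proj_idem A p u χ hp hu hχ i a⟩
  rw [counit_proj, ha, mul_zero]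

include hp hu hχ in
theorem eigenAug_eq_map_proj (i : ℕ) :
    OortTate.eigenAug R A p χ i =
      Submodule.map (OortTate.proj R A p u χ i)
        (LinearMap.ker (Bialgebra.counitAlgHom R A).toLinearMap) := by
  apply le_antisymm
  · intro a ha
    rw [mem_eigenAug_iff A p u χ hp hu] at ha
    exact ⟨a, ha.1, ha.2⟩
  · rintro _ ⟨a, ha, rfl⟩
    exact proj_mem_eigenAug A p u χ hp hu hχ i a ha

include hp hu hχ in
theorem iSupIndep_eigenAug :
    iSupIndep (fun i : Fin (p - 1) => OortTate.eigenAug R A p χ (i : ℕ)) := by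
  intro i
  rw [Submodule.disjoint_def]
  intro x hx1 hx2
  have hle : (⨆ j, ⨆ (_ : j ≠ i), OortTate.eigenAug R A p χ (j : ℕ)) ≤
      LinearMap.ker (OortTate.proj R A p u χ (i : ℕ)) := by
    apply iSup_le
    intro j
    apply iSup_le
    intro hji a ha
    rw [mem_eigenAug_iff A p u χ hp hu] at ha
    rw [LinearMap.mem_ker, ← ha.2]
    exact proj_ortho A p u χ hp hu hχ i j (Ne.symm hji) a
  have h0 := hle hx2
  rw [LinearMap.mem_ker] at h0
  rw [mem_eigenAug_iff A p u χ hp hu] at hx1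
  rw [← hx1.2, h0]

include hp hu hχ in
theorem iSup_eigenAug :
    (⨆ i : Fin (p - 1), OortTate.eigenAug R A p χ (i : ℕ)) =
      LinearMap.ker (Bialgebra.counitAlgHom R A).toLinearMap := by
  apply le_antisymm
  · apply iSup_le
    intro i a ha
    rw [mem_eigenAug_iff A p u χ hp hu] at ha
    exact ha.1
  · intro a ha
    rw [← sum_proj A p u χ hp hu hχ a]
    apply Submodule.sum_mem
    intro i _
    exact Submodule.mem_iSup_of_mem i (proj_mem_eigenAug A p u χ hp hu hχ (i : ℕ) a ha)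

/-- `a ↦ e_i (a - ε a)` -/
noncomputable def augProj (i : ℕ) : A →ₗ[R] A :=
  (OortTate.proj R A p u χ i).comp (LinearMap.id - (pw R A 0).toLinearMap)

lemma augProj_apply (i : ℕ) (a : A) :
    augProj A p u χ i a = OortTate.proj R A p u χ i (a - pw R A 0 a) := rfl

include hp hu hχ in
lemma augProj_mem (i : ℕ) (a : A) : augProj A p u χ i a ∈ OortTate.eigenAug R A p χ i := by
  rw [augProj_apply]
  apply proj_mem_eigenAug A p u χ hp hu hχ
  rw [map_sub, counit_pw, sub_self]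

include hp hu in
lemma augProj_of_mem (i : ℕ) (a : A) (ha : a ∈ OortTate.eigenAug R A p χ i) :
    augProj A p u χ i a = a := by
  rw [mem_eigenAug_iff A p u χ hp hu] at ha
  rw [augProj_apply, pw_zero_apply, ha.1, map_zero, sub_zero, ha.2]

include hp hu hχ in
lemma augProj_proj (i : ℕ) (a : A) :
    augProj A p u χ i (OortTate.proj R A p u χ i a) = augProj A p u χ i a := by
  rw [augProj_apply, augProj_apply, ← proj_pw, ← map_sub, proj_idem A p u χ hp hu hχ]

include hp hu hχ in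
lemma augProj_idem (i : ℕ) (a : A) :
    augProj A p u χ i (augProj A p u χ i a) = augProj A p u χ i a :=
  augProj_of_mem A p u χ hp hu i _ (augProj_mem A p u χ hp hu hχ i a)

include hp hu hχ in
theorem range_augProj (i : ℕ) :
    LinearMap.range (augProj A p u χ i) = OortTate.eigenAug R A p χ i := by
  apply le_antisymm
  · rintro _ ⟨a, rfl⟩
    exact augProj_mem A p u χ hp hu hχ i a
  · intro a ha
    exact ⟨a, augProj_of_mem A p u χ hp hu i a ha⟩

end Action

end Groth.Agent.H9.OT
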