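import Mathlib
import Groth.Agent.Lib.Helper9.OT.Eigen
import Groth.Agent.Lib.Helper9.FinHopf.PrimeOrder
import Groth.Agent.Lib.Helper9.EtaleUnip

/-!
# Oort–Tate: the eigenspaces over an algebraically closed field (helper9)
-/

set_option autoImplicit false
set_option linter.unusedSectionVars false

universe u v

open TensorProduct WithConv

namespace Groth.Agent.H9.OT

open Groth.Agent.H9.FinHopf

section General

lemma finrank_iSup_of_iSupIndep {k : Type*} [Field k] {M : Type*} [AddCommGroup M] [Module k M]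
    [FiniteDimensional k M] {ι : Type*} [Fintype ι] [DecidableEq ι] (V : ι → Submodule k M)
    (h : iSupIndep V) :
    Module.finrank k ↥(⨆ i, V i) = ∑ i, Module.finrank k (V i) := by
  have hinj : Function.Injective (DirectSum.coeLinearMap V) := h.dfinsupp_lsum_injective
  have hrange := DirectSum.range_coeLinearMap (A := V)
  rw [← hrange, ← (LinearEquiv.ofInjective _ hinj).finrank_eq, Module.finrank_directSum]

variable (R : Type u) [CommRing R] (A : Type u) [CommRing A] [HopfAlgebra R A]
  (p : ℕ) [Fact p.Prime] (χ : (ZMod p)ˣ →* Rˣ)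

lemma eigenAug_mod (i : ℕ) :
    OortTate.eigenAug R A p χ i = OortTate.eigenAug R A p χ (i % (p - 1)) := by
  unfold OortTate.eigenAug
  congr 1
  apply iInf_congr
  intro m
  rw [chi_pow_mod p χ m i]

variable {R A p χ}

lemma mem_eigenAug_iff' (i : ℕ) (a : A) :
    a ∈ OortTate.eigenAug R A p χ i ↔
      CoalgebraStruct.counit (R := R) a = 0 ∧
        ∀ m : (ZMod p)ˣ, pw R A (m : ZMod p).val a = ((χ m : Rˣ) : R) ^ i • a := by
  unfold OortTate.eigenAug
  rw [Submodule.mem_inf, Submodule.mem_iInf, LinearMap.mem_ker]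
  constructor
  · rintro ⟨h1, h2⟩
    exact ⟨h1, fun m => Module.End.mem_eigenspace_iff.mp (h2 m)⟩
  · rintro ⟨h1, h2⟩
    exact ⟨h1, fun m => Module.End.mem_eigenspace_iff.mpr (h2 m)⟩

lemma mul_mem_eigenAug {i j : ℕ} {a b : A} (ha : a ∈ OortTate.eigenAug R A p χ i)
    (hb : b ∈ OortTate.eigenAug R A p χ j) : a * b ∈ OortTate.eigenAug R A p χ (i + j) := by
  rw [mem_eigenAug_iff'] at ha hb ⊢
  constructor
  · rw [Bialgebra.counit_mul, ha.1, zero_mul]
  · intro m
    rw [map_mul, ha.2 m, hb.2 m, smul_mul_smul_comm, pow_add]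

lemma pow_le_eigenAug (t : ℕ) (ht : 1 ≤ t) :
    (OortTate.eigenAug R A p χ 1) ^ t ≤ OortTate.eigenAug R A p χ t := by
  induction t, ht using Nat.le_induction with
  | base => rw [pow_one]
  | succ t ht ih =>
    rw [pow_succ]
    apply Submodule.mul_le.mpr
    intro a ha b hb
    exact mul_mem_eigenAug (ih ha) hb

lemma pow_mem_eigenAug {y : A} (hy : y ∈ OortTate.eigenAug R A p χ 1) (t : ℕ) (ht : 1 ≤ t) :
    y ^ t ∈ OortTate.eigenAug R A p χ t :=
  pow_le_eigenAug t ht (Submodule.pow_mem_pow _ hy t)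

end General

section Field

variable {k : Type u} [Field k] {A : Type u} [CommRing A] [HopfAlgebra k A] [Module.Finite k A]
  (p : ℕ) [Fact p.Prime] (u : k) (χ : (ZMod p)ˣ →* kˣ)
  (hp : (toConv (AlgHom.id k A) : WithConv (A →ₐ[k] A)) ^ p = 1)
  (hu : u * ((p - 1 : ℕ) : k) = 1)
  (hχ : ∀ m : (ZMod p)ˣ, m ≠ 1 → IsUnit ((χ m : k) - 1))

include hp hu hχ in
lemma sum_finrank_eigenAug (hA : Module.finrank k A = p) :
    ∑ i : Fin (p - 1), Module.finrank k (OortTate.eigenAug k A p χ (i : ℕ)) = p - 1 := by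
  classical
  rw [← finrank_iSup_of_iSupIndep _ (iSupIndep_eigenAug A p u χ hp hu hχ),
    iSup_eigenAug A p u χ hp hu hχ]
  have h := LinearMap.finrank_range_add_finrank_ker (Bialgebra.counitAlgHom k A).toLinearMap
  have hsurj : LinearMap.range (Bialgebra.counitAlgHom k A).toLinearMap = ⊤ := by
    rw [LinearMap.range_eq_top]
    intro c
    exact ⟨algebraMap k A c, by simp⟩
  rw [hsurj, finrank_top, Module.finrank_self, hA] at h
  omega

include hp hu hχ in
theorem field_final (hA : Module.finrank k A = p) {y : A}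
    (hy : y ∈ OortTate.eigenAug k A p χ 1)
    (hyt : ∀ t, 1 ≤ t → t ≤ p - 1 → y ^ t ≠ 0) :
    (∀ i : ℕ, Module.finrank k (OortTate.eigenAug k A p χ i) = 1) ∧
      ∀ t, 1 ≤ t → t ≤ p - 1 →
        (OortTate.eigenAug k A p χ 1) ^ t = OortTate.eigenAug k A p χ t := by
  have hp1 : 1 ≤ p - 1 := Nat.sub_pos_of_lt (Fact.out : p.Prime).one_lt
  have hpos : ∀ t, 1 ≤ t → t ≤ p - 1 →
      1 ≤ Module.finrank k (OortTate.eigenAug k A p χ t) := by
    intro t h1 h2
    apply Module.finrank_pos_iff_exists_ne_zero.mpr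
    refine ⟨⟨y ^ t, pow_mem_eigenAug hy t h1⟩, ?_⟩
    intro h0
    exact hyt t h1 h2 (congrArg Subtype.val h0)
  have hpos' : ∀ i : Fin (p - 1),
      1 ≤ Module.finrank k (OortTate.eigenAug k A p χ (i : ℕ)) := by
    intro i
    by_cases hi : (i : ℕ) = 0
    · have h1 := eigenAug_mod k A p χ (p - 1)
      rw [Nat.mod_self] at h1
      rw [hi, ← h1]
      exact hpos (p - 1) hp1 le_rfl
    · exact hpos i (Nat.one_le_iff_ne_zero.mpr hi) (le_of_lt i.2)
  have hsum := sum_finrank_eigenAug p u χ hp hu hχ hA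
  have hone : ∀ i : Fin (p - 1),
      Module.finrank k (OortTate.eigenAug k A p χ (i : ℕ)) = 1 := by
    have h1 : ∑ _i : Fin (p - 1), 1 = p - 1 := by simp
    have h2 := (Finset.sum_eq_sum_iff_of_le (s := Finset.univ)
      (f := fun _ : Fin (p - 1) => 1)
      (g := fun i : Fin (p - 1) => Module.finrank k (OortTate.eigenAug k A p χ (i : ℕ)))
      (fun i _ => hpos' i)).mp (by rw [h1, hsum])
    intro i
    exact (h2 i (Finset.mem_univ i)).symm
  have hall : ∀ i : ℕ, Module.finrank k (OortTate.eigenAug k A p χ i) = 1 := by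
    intro i
    rw [eigenAug_mod]
    exact hone ⟨i % (p - 1), Nat.mod_lt _ hp1⟩
  refine ⟨hall, ?_⟩
  intro t h1 h2
  apply le_antisymm (pow_le_eigenAug t h1)
  intro x hx
  have hyt' : (⟨y ^ t, pow_mem_eigenAug hy t h1⟩ : OortTate.eigenAug k A p χ t) ≠ 0 := by
    intro h0
    exact hyt t h1 h2 (congrArg Subtype.val h0)
  obtain ⟨c, hc⟩ := (finrank_eq_one_iff_of_nonzero' _ hyt').mp (hall t) ⟨x, hx⟩
  have hc' : c • y ^ t = x := congrArg Subtype.val hc
  rw [← hc']
  exact Submodule.smul_mem _ c (Submodule.pow_mem_pow _ hy t)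

end Field

section Etale

variable {k : Type u} [Field k] [IsAlgClosed k] {A : Type u} [CommRing A] [HopfAlgebra k A]
  [Module.Finite k A] [IsReduced A]
  (p : ℕ) [Fact p.Prime] (u : k) (χ : (ZMod p)ˣ →* kˣ)
  (hp : (toConv (AlgHom.id k A) : WithConv (A →ₐ[k] A)) ^ p = 1)
  (hu : u * ((p - 1 : ℕ) : k) = 1)
  (hχ : ∀ m : (ZMod p)ˣ, m ≠ 1 → IsUnit ((χ m : k) - 1))

omit [IsAlgClosed k] [Module.Finite k A] [IsReduced A] in
lemma point_pow (g : WithConv (A →ₐ[k] k)) (n : ℕ) (a : A) :
    (g ^ n).ofConv a = g.ofConv (pw k A n a) := by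
  have h := comp_convPow g.ofConv (toConv (AlgHom.id k A)) n
  have h2 := AlgHom.congr_fun h a
  exact h2.symm

lemma card_points_eq (hA : Module.finrank k A = p) : Nat.card (WithConv (A →ₐ[k] k)) = p := by
  rw [← hA, ← EtaleUnip.card_points (K := k) (B := A)]
  exact Nat.card_congr (WithConv.equiv _)

include hp in
lemma eq_zero_of_eval_eq_zero (hA : Module.finrank k A = p) (g : WithConv (A →ₐ[k] k))
    (hg : g ≠ 1) (i : ℕ) (f : A) (hf : f ∈ OortTate.eigenAug k A p χ i)
    (hgf : g.ofConv f = 0) : f = 0 := by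
  have hcard := card_points_eq p hA
  rw [mem_eigenAug_iff'] at hf
  have hnil : f ∈ nilradical A := by
    apply mem_nilradical_of_forall_point (k := k)
    intro h
    obtain ⟨n, hn⟩ := mem_powers_of_prime_card hcard hg (g' := toConv h)
    have hn' : g ^ n = toConv h := hn
    have h1 : h f = (g ^ n).ofConv f := by rw [hn']
    rw [h1, point_pow]
    by_cases hdvd : p ∣ n
    · have h2 : pw k A n = pw k A 0 := pw_congr p hp ((Nat.modEq_zero_iff_dvd).mpr hdvd)
      rw [h2, pw_zero_apply, hf.1, map_zero, map_zero]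
    · have hcop : Nat.Coprime n p :=
        ((Nat.Prime.coprime_iff_not_dvd (Fact.out : p.Prime)).mpr hdvd).symm
      have h2 : pw k A n = pw k A ((ZMod.unitOfCoprime n hcop : (ZMod p)ˣ) : ZMod p).val := by
        apply pw_congr p hp
        rw [ZMod.coe_unitOfCoprime, ZMod.val_natCast]
        exact (Nat.mod_modEq n p).symm
      rw [h2, hf.2, map_smul, hgf, smul_zero]
  exact IsReduced.eq_zero _ (mem_nilradical.mp hnil)

include hp hu hχ in
theorem etale_exists (hA : Module.finrank k A = p) :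
    ∃ y ∈ OortTate.eigenAug k A p χ 1, ∀ t, 1 ≤ t → t ≤ p - 1 → y ^ t ≠ 0 := by
  have hp1 : 1 ≤ p - 1 := Nat.sub_pos_of_lt (Fact.out : p.Prime).one_lt
  have hcard := card_points_eq p hA
  have hfin : Finite (WithConv (A →ₐ[k] k)) :=
    Nat.finite_of_card_ne_zero (by rw [hcard]; exact (Fact.out : p.Prime).ne_zero)
  have hnt : Nontrivial (WithConv (A →ₐ[k] k)) := by
    apply Finite.one_lt_card_iff_nontrivial.mp
    rw [hcard]
    exact (Fact.out : p.Prime).one_lt
  obtain ⟨g, hg⟩ := exists_ne (1 : WithConv (A →ₐ[k] k))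
  have hle : ∀ i : ℕ, Module.finrank k (OortTate.eigenAug k A p χ i) ≤ 1 := by
    intro i
    let L : OortTate.eigenAug k A p χ i →ₗ[k] k :=
      g.ofConv.toLinearMap.comp (OortTate.eigenAug k A p χ i).subtype
    have hL : Function.Injective L := by
      rw [← LinearMap.ker_eq_bot, LinearMap.ker_eq_bot']
      intro f hf
      apply Subtype.ext
      exact eq_zero_of_eval_eq_zero p χ hp hA g hg i f f.2 hf
    have := LinearMap.finrank_le_finrank_of_injective hL
    rwa [Module.finrank_self] at this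
  have hsum := sum_finrank_eigenAug p u χ hp hu hχ hA
  have hone : ∀ i : Fin (p - 1),
      Module.finrank k (OortTate.eigenAug k A p χ (i : ℕ)) = 1 := by
    have h1 : ∑ _i : Fin (p - 1), 1 = p - 1 := by simp
    have h2 := (Finset.sum_eq_sum_iff_of_le (s := Finset.univ)
      (f := fun i : Fin (p - 1) => Module.finrank k (OortTate.eigenAug k A p χ (i : ℕ)))
      (g := fun _ : Fin (p - 1) => 1)
      (fun i _ => hle i)).mp (by rw [h1, hsum])
    intro i
    exact h2 i (Finset.mem_univ i)
  have h1 : Module.finrank k (OortTate.eigenAug k A p χ 1) = 1 := by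
    rw [eigenAug_mod]
    exact hone ⟨1 % (p - 1), Nat.mod_lt _ hp1⟩
  have hpos : 0 < Module.finrank k (OortTate.eigenAug k A p χ 1) := by rw [h1]; exact one_pos
  obtain ⟨y, hy⟩ := Module.finrank_pos_iff_exists_ne_zero.mp hpos
  refine ⟨y, y.2, ?_⟩
  intro t _ _ h0
  have hgy : g.ofConv (y : A) ≠ 0 := by
    intro h
    apply hy
    apply Subtype.ext
    exact eq_zero_of_eval_eq_zero p χ hp hA g hg 1 y y.2 h
  have := congrArg g.ofConv h0
  rw [map_pow, map_zero] at this
  exact hgy (pow_eq_zero_iff (by omega) |>.mp this)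

end Etale

section Tangent

variable {k : Type u} [Field k] {A : Type v} [CommRing A] [HopfAlgebra k A]

/-- convolution of two counit-preserving algebra maps is additive modulo `I²` -/
lemma convMul_sub_mem_sq (F G : A →ₐ[k] A)
    (hF : ∀ a, CoalgebraStruct.counit (R := k) (F a) = CoalgebraStruct.counit (R := k) a)
    (hG : ∀ a, CoalgebraStruct.counit (R := k) (G a) = CoalgebraStruct.counit (R := k) a)
    (a : A) (ha : CoalgebraStruct.counit (R := k) a = 0) :
    ((toConv F : WithConv (A →ₐ[k] A)) * toConv G).ofConv a - F a - G a ∈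
      (RingHom.ker (Bialgebra.counitAlgHom k A)) ^ 2 := by
  have key : ∀ t : A ⊗[k] A,
      Algebra.TensorProduct.lift F G (fun _ _ => Commute.all _ _) t
        - F (TensorProduct.rid k A ((CoalgebraStruct.counit (R := k) (A := A)).lTensor A t))
        - G (TensorProduct.lid k A ((CoalgebraStruct.counit (R := k) (A := A)).rTensor A t))
        + algebraMap k A (CoalgebraStruct.counit (R := k)
            (TensorProduct.rid k A ((CoalgebraStruct.counit (R := k) (A := A)).lTensor A t))) ∈
      (RingHom.ker (Bialgebra.counitAlgHom k A)) ^ 2 := by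
    intro t
    induction t using TensorProduct.induction_on with
    | zero => simp
    | tmul x y =>
      rw [Algebra.TensorProduct.lift_tmul, LinearMap.lTensor_tmul, LinearMap.rTensor_tmul,
        TensorProduct.rid_tmul, TensorProduct.lid_tmul, map_smul, map_smul, map_smul, smul_eq_mul,
        map_mul]
      have h1 : F x * G y - CoalgebraStruct.counit (R := k) y • F x -
          CoalgebraStruct.counit (R := k) x • G y +
          algebraMap k A (CoalgebraStruct.counit (R := k) y) *
            algebraMap k A (CoalgebraStruct.counit (R := k) x) =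
          (F x - algebraMap k A (CoalgebraStruct.counit (R := k) x)) *
            (G y - algebraMap k A (CoalgebraStruct.counit (R := k) y)) := by
        rw [Algebra.smul_def, Algebra.smul_def]
        ring
      rw [h1, pow_two]
      apply Ideal.mul_mem_mul
      · rw [RingHom.mem_ker, map_sub]
        show CoalgebraStruct.counit (R := k) (F x) - CoalgebraStruct.counit (R := k)
          (algebraMap k A (CoalgebraStruct.counit (R := k) x)) = 0
        rw [hF, Bialgebra.counit_algebraMap, sub_self]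
      · rw [RingHom.mem_ker, map_sub]
        show CoalgebraStruct.counit (R := k) (G y) - CoalgebraStruct.counit (R := k)
          (algebraMap k A (CoalgebraStruct.counit (R := k) y)) = 0
        rw [hG, Bialgebra.counit_algebraMap, sub_self]
    | add x y hx hy =>
      have := Ideal.add_mem _ hx hy
      convert this using 1
      simp only [map_add]
      ring
  have h := key (CoalgebraStruct.comul (R := k) a)
  rw [Coalgebra.lTensor_counit_comul, Coalgebra.rTensor_counit_comul, TensorProduct.rid_tmul,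
    TensorProduct.lid_tmul, one_smul, ha, map_zero, add_zero] at h
  rw [AlgHom.convMul_apply]
  exact h

lemma pw_sub_nsmul_mem_sq (n : ℕ) (a : A) (ha : CoalgebraStruct.counit (R := k) a = 0) :
    pw k A n a - n • a ∈ (RingHom.ker (Bialgebra.counitAlgHom k A)) ^ 2 := by
  induction n with
  | zero =>
    rw [pw_zero_apply, ha, map_zero, zero_smul, sub_zero]
    exact Ideal.zero_mem _
  | succ n ih =>
    have h1 := convMul_sub_mem_sq (pw k A n) (pw k A 1) (counit_pw k A n) (counit_pw k A 1) a ha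
    rw [← pw_add, pw_one, AlgHom.id_apply] at h1
    have h2 := Ideal.add_mem _ h1 ih
    have h3 : pw k A (n + 1) a - pw k A n a - a + (pw k A n a - n • a) =
        pw k A (n + 1) a - (n + 1) • a := by
      rw [succ_nsmul]
      abel
    rw [h3] at h2
    exact h2

end Tangent

section Conn

variable {k : Type u} [Field k] {A : Type u} [CommRing A] [HopfAlgebra k A] [Module.Finite k A]
  [IsLocalRing A] (p : ℕ) [hpf : Fact p.Prime] [CharP k p]

lemma mem_ker_counit {a : A} :
    a ∈ RingHom.ker (Bialgebra.counitAlgHom k A) ↔ CoalgebraStruct.counit (R := k) a = 0 := by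
  rw [RingHom.mem_ker]
  rfl

lemma exists_sub_smul_mem_sq (hA : Module.finrank k A = p) {y : A}
    (hy : CoalgebraStruct.counit (R := k) y = 0)
    (hy2 : y ∉ (RingHom.ker (Bialgebra.counitAlgHom k A)) ^ 2) (a : A)
    (ha : CoalgebraStruct.counit (R := k) a = 0) :
    ∃ c : k, a - c • y ∈ (RingHom.ker (Bialgebra.counitAlgHom k A)) ^ 2 := by
  have h1 : ∀ f : A, Bialgebra.counitAlgHom k A f = 0 → f ^ p = 0 :=
    fun f hf => pow_eq_zero_of_finrank_eq p hA hf
  have hd := finrank_of_height_one p h1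
  rw [hA] at hd
  have hd1 : Module.finrank k (RingHom.ker (Bialgebra.counitAlgHom k A)).Cotangent = 1 := by
    have : p ^ 1 = p ^ Module.finrank k (RingHom.ker (Bialgebra.counitAlgHom k A)).Cotangent := by
      rw [pow_one]
      exact hd
    exact (Nat.pow_right_injective hpf.out.two_le this).symm
  have hyI : y ∈ RingHom.ker (Bialgebra.counitAlgHom k A) := mem_ker_counit.mpr hy
  have haI : a ∈ RingHom.ker (Bialgebra.counitAlgHom k A) := mem_ker_counit.mpr ha
  have hne : (RingHom.ker (Bialgebra.counitAlgHom k A)).toCotangent ⟨y, hyI⟩ ≠ 0 := by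
    intro h0
    exact hy2 ((Ideal.toCotangent_eq_zero _ _).mp h0)
  obtain ⟨c, hc⟩ := (finrank_eq_one_iff_of_nonzero' _ hne).mp hd1
    ((RingHom.ker (Bialgebra.counitAlgHom k A)).toCotangent ⟨a, haI⟩)
  refine ⟨c, ?_⟩
  have h2 : (RingHom.ker (Bialgebra.counitAlgHom k A)).toCotangent
      (⟨a, haI⟩ - c • ⟨y, hyI⟩) = 0 := by
    rw [map_sub, LinearMap.map_smul_of_tower, hc, sub_self]
  exact (Ideal.toCotangent_eq_zero _ _).mp h2

lemma exists_sub_smul_pow_mem (hA : Module.finrank k A = p) {y : A}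
    (hy : CoalgebraStruct.counit (R := k) y = 0)
    (hy2 : y ∉ (RingHom.ker (Bialgebra.counitAlgHom k A)) ^ 2) (j : ℕ) (a : A)
    (ha : a ∈ (RingHom.ker (Bialgebra.counitAlgHom k A)) ^ j) :
    ∃ c : k, a - c • y ^ j ∈ (RingHom.ker (Bialgebra.counitAlgHom k A)) ^ (j + 1) := by
  have hyI : y ∈ RingHom.ker (Bialgebra.counitAlgHom k A) := mem_ker_counit.mpr hy
  induction j generalizing a with
  | zero =>
    refine ⟨CoalgebraStruct.counit (R := k) a, ?_⟩
    rw [pow_zero, zero_add, pow_one, mem_ker_counit, map_sub, map_smul, Bialgebra.counit_one,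
      smul_eq_mul, mul_one, sub_self]
  | succ j ih =>
    rw [pow_succ] at ha
    refine Submodule.mul_induction_on ha ?_ ?_
    · intro m hm n hn
      obtain ⟨c, hc⟩ := ih m hm
      obtain ⟨d, hd⟩ := exists_sub_smul_mem_sq p hA hy hy2 n (mem_ker_counit.mp hn)
      refine ⟨c * d, ?_⟩
      have h1 : m * n - (c * d) • y ^ (j + 1) =
          (m - c • y ^ j) * n + (c • y ^ j) * (n - d • y) := by
        rw [pow_succ, mul_smul]
        simp only [Algebra.smul_def]
        ring
      rw [h1]
      apply Ideal.add_mem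
      · rw [pow_succ _ (j + 1)]
        exact Ideal.mul_mem_mul hc hn
      · have h2 : (RingHom.ker (Bialgebra.counitAlgHom k A)) ^ (j + 1 + 1) =
            (RingHom.ker (Bialgebra.counitAlgHom k A)) ^ j *
              (RingHom.ker (Bialgebra.counitAlgHom k A)) ^ 2 := by
          rw [← pow_add]
        rw [h2]
        apply Ideal.mul_mem_mul _ hd
        rw [Algebra.smul_def]
        exact Ideal.mul_mem_left _ _ (Ideal.pow_mem_pow hyI j)
    · rintro x x' ⟨c, hc⟩ ⟨c', hc'⟩
      refine ⟨c + c', ?_⟩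
      have : x + x' - (c + c') • y ^ (j + 1) = (x - c • y ^ (j + 1)) + (x' - c' • y ^ (j + 1)) := by
        rw [add_smul]
        abel
      rw [this]
      exact Ideal.add_mem _ hc hc'

lemma ker_pow_eq_bot (hA : Module.finrank k A = p) {y : A}
    (hy : CoalgebraStruct.counit (R := k) y = 0)
    (hy2 : y ∉ (RingHom.ker (Bialgebra.counitAlgHom k A)) ^ 2) :
    (RingHom.ker (Bialgebra.counitAlgHom k A)) ^ p = ⊥ := by
  have h1 : ∀ f : A, CoalgebraStruct.counit (R := k) f = 0 → f ^ p = 0 :=
    fun f hf => pow_eq_zero_of_finrank_eq p hA hf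
  have hle : (RingHom.ker (Bialgebra.counitAlgHom k A)) ^ p ≤
      (RingHom.ker (Bialgebra.counitAlgHom k A)) ^ (p + 1) := by
    intro a ha
    obtain ⟨c, hc⟩ := exists_sub_smul_pow_mem p hA hy hy2 p a ha
    rw [h1 y hy, smul_zero, sub_zero] at hc
    exact hc
  obtain ⟨N, hN⟩ := exists_pow_eq_bot_of_forall_isNilpotent (k := k)
    (RingHom.ker (Bialgebra.counitAlgHom k A))
    (fun f hf => ⟨p, h1 f (mem_ker_counit.mp hf)⟩)
  have hall : ∀ n : ℕ, (RingHom.ker (Bialgebra.counitAlgHom k A)) ^ p ≤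
      (RingHom.ker (Bialgebra.counitAlgHom k A)) ^ (p + n) := by
    intro n
    induction n with
    | zero => exact le_rfl
    | succ n ih =>
      refine le_trans ih ?_
      have e1 : (RingHom.ker (Bialgebra.counitAlgHom k A)) ^ (p + n) =
          (RingHom.ker (Bialgebra.counitAlgHom k A)) ^ n *
            (RingHom.ker (Bialgebra.counitAlgHom k A)) ^ p := by
        rw [← pow_add, add_comm]
      have e2 : (RingHom.ker (Bialgebra.counitAlgHom k A)) ^ (p + (n + 1)) =
          (RingHom.ker (Bialgebra.counitAlgHom k A)) ^ n *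
            (RingHom.ker (Bialgebra.counitAlgHom k A)) ^ (p + 1) := by
        rw [← pow_add]
        congr 1
        omega
      rw [e1, e2]
      exact Ideal.mul_mono le_rfl hle
  rw [eq_bot_iff]
  refine le_trans (hall N) ?_
  rw [pow_add, hN, Ideal.mul_bot]

lemma exists_sum_pow (hA : Module.finrank k A = p) {y : A}
    (hy : CoalgebraStruct.counit (R := k) y = 0)
    (hy2 : y ∉ (RingHom.ker (Bialgebra.counitAlgHom k A)) ^ 2) (a : A) (j : ℕ) :
    ∃ c : ℕ → k, a - ∑ i ∈ Finset.range j, c i • y ^ i ∈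
      (RingHom.ker (Bialgebra.counitAlgHom k A)) ^ j := by
  induction j with
  | zero =>
    refine ⟨fun _ => 0, ?_⟩
    rw [pow_zero, Ideal.one_eq_top]
    trivial
  | succ j ih =>
    obtain ⟨c, hc⟩ := ih
    obtain ⟨d, hd⟩ := exists_sub_smul_pow_mem p hA hy hy2 j _ hc
    refine ⟨fun i => if i = j then d else c i, ?_⟩
    rw [Finset.sum_range_succ]
    dsimp only
    rw [if_pos rfl]
    have h1 : ∑ i ∈ Finset.range j, (if i = j then d else c i) • y ^ i =
        ∑ i ∈ Finset.range j, c i • y ^ i := by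
      apply Finset.sum_congr rfl
      intro i hi
      rw [if_neg (ne_of_lt (Finset.mem_range.mp hi))]
    rw [h1, ← sub_sub]
    exact hd

lemma pow_ne_zero_of_not_mem_sq (hA : Module.finrank k A = p) {y : A}
    (hy : CoalgebraStruct.counit (R := k) y = 0)
    (hy2 : y ∉ (RingHom.ker (Bialgebra.counitAlgHom k A)) ^ 2) (t : ℕ) (ht : t < p) :
    y ^ t ≠ 0 := by
  have hspan : ⊤ ≤ Submodule.span k (Set.range (fun i : Fin p => y ^ (i : ℕ))) := by
    intro a _
    obtain ⟨c, hc⟩ := exists_sum_pow p hA hy hy2 a p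
    rw [ker_pow_eq_bot p hA hy hy2, Ideal.mem_bot, sub_eq_zero] at hc
    rw [hc]
    apply Submodule.sum_mem
    intro i hi
    apply Submodule.smul_mem
    exact Submodule.subset_span ⟨⟨i, Finset.mem_range.mp hi⟩, rfl⟩
  have hli := linearIndependent_of_top_le_span_of_card_eq_finrank hspan
    (by rw [Fintype.card_fin, hA])
  exact hli.ne_zero ⟨t, ht⟩

variable (u : k) (χ : (ZMod p)ˣ →* kˣ)
  (hp : (toConv (AlgHom.id k A) : WithConv (A →ₐ[k] A)) ^ p = 1)
  (hu : u * ((p - 1 : ℕ) : k) = 1)
  (hχ : ∀ m : (ZMod p)ˣ, m ≠ 1 → IsUnit ((χ m : k) - 1))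
  (hχk : ∀ m : (ZMod p)ˣ, ((χ m : kˣ) : k) = (((m : ZMod p).val : ℕ) : k))

include hp hu hχ hχk in
theorem conn_exists (hA : Module.finrank k A = p) :
    ∃ y ∈ OortTate.eigenAug k A p χ 1, ∀ t, 1 ≤ t → t ≤ p - 1 → y ^ t ≠ 0 := by
  have hp2 : 2 ≤ p := hpf.out.two_le
  have hI0 : RingHom.ker (Bialgebra.counitAlgHom k A) ≠ ⊥ := by
    intro h0
    have := finrank_eq_one_of_ker_counit k h0
    rw [hA] at this
    omega
  have hex : ∃ z ∈ RingHom.ker (Bialgebra.counitAlgHom k A),
      z ∉ (RingHom.ker (Bialgebra.counitAlgHom k A)) ^ 2 := by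
    by_contra hcon
    push Not at hcon
    exact hI0 (ker_counit_eq_bot_of_le_sq k hcon)
  obtain ⟨z, hzI, hz2⟩ := hex
  have hz : CoalgebraStruct.counit (R := k) z = 0 := mem_ker_counit.mp hzI
  have hy1 : OortTate.proj k A p u χ 1 z ∈ OortTate.eigenAug k A p χ 1 :=
    proj_mem_eigenAug A p u χ hp hu hχ 1 z hz
  have hy0 : CoalgebraStruct.counit (R := k) (OortTate.proj k A p u χ 1 z) = 0 :=
    ((mem_eigenAug_iff' 1 _).mp hy1).1
  have hdiff : OortTate.proj k A p u χ 1 z - z ∈
      (RingHom.ker (Bialgebra.counitAlgHom k A)) ^ 2 := by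
    have h1 : OortTate.proj k A p u χ 1 z - z =
        u • ∑ m : (ZMod p)ˣ, ((χ m⁻¹ : kˣ) : k) •
          (pw k A (m : ZMod p).val z - (m : ZMod p).val • z) := by
      rw [proj_apply]
      have h2 : ∀ m : (ZMod p)ˣ, ((χ m⁻¹ : kˣ) : k) •
          (pw k A (m : ZMod p).val z - (m : ZMod p).val • z) =
          ((χ m⁻¹ : kˣ) : k) ^ 1 • pw k A (m : ZMod p).val z - z := by
        intro m
        rw [smul_sub, pow_one, ← Nat.cast_smul_eq_nsmul k, smul_smul, ← hχk m, ← Units.val_mul,
          ← map_mul, inv_mul_cancel, map_one, Units.val_one, one_smul]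
      rw [Finset.sum_congr rfl (fun m _ => h2 m), Finset.sum_sub_distrib, smul_sub,
        Finset.sum_const, Finset.card_univ, ZMod.card_units p, ← Nat.cast_smul_eq_nsmul k,
        smul_smul, hu, one_smul]
    rw [h1, Algebra.smul_def]
    apply Ideal.mul_mem_left
    apply Ideal.sum_mem
    intro m _
    rw [Algebra.smul_def]
    apply Ideal.mul_mem_left
    exact pw_sub_nsmul_mem_sq _ z hz
  have hy2 : OortTate.proj k A p u χ 1 z ∉ (RingHom.ker (Bialgebra.counitAlgHom k A)) ^ 2 := by
    intro h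
    apply hz2
    have := Ideal.sub_mem _ h hdiff
    rwa [sub_sub_cancel] at this
  refine ⟨_, hy1, ?_⟩
  intro t _ ht2
  exact pow_ne_zero_of_not_mem_sq p hA hy0 hy2 t (by omega)

end Conn

section Main

variable {k : Type u} [Field k] [IsAlgClosed k] {A : Type u} [CommRing A] [HopfAlgebra k A]
  [Module.Finite k A] (p : ℕ) [hpf : Fact p.Prime] (u : k) (χ : (ZMod p)ˣ →* kˣ)
  (hu : u * ((p - 1 : ℕ) : k) = 1)
  (hχ : ∀ m : (ZMod p)ˣ, m ≠ 1 → IsUnit ((χ m : k) - 1))
  (hχp : ∀ m : (ZMod p)ˣ, ((χ m : kˣ) : k) - (((m : ZMod p).val : ℕ) : k) ∈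
    Ideal.span ({(p : k)} : Set k))

include hu hχ hχp in
/-- **Oort–Tate over an algebraically closed field**: the eigenspaces are lines and
`I_1 ^ t = I_t`. -/
theorem field_case (hA : Module.finrank k A = p) :
    (∀ i : ℕ, Module.finrank k (OortTate.eigenAug k A p χ i) = 1) ∧
      ∀ t, 1 ≤ t → t ≤ p - 1 →
        (OortTate.eigenAug k A p χ 1) ^ t = OortTate.eigenAug k A p χ t := by
  have hp : (toConv (AlgHom.id k A) : WithConv (A →ₐ[k] A)) ^ p = 1 := by
    have := id_pow_finrank k A
    rwa [hA] at this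
  have hprime : (Module.finrank k A).Prime := by rw [hA]; exact hpf.out
  rcases isLocalRing_or_isReduced_of_prime (k := k) hprime with hloc | hred
  · have hchar : CharP k p := by
      obtain ⟨n, hn⟩ := exists_finrank_eq_ringExpChar_pow k A
      rw [hA] at hn
      obtain ⟨q, hq⟩ := CharP.exists k
      rcases CharP.char_is_prime_or_zero k q with hqp | h0
      · have hexp : ExpChar k q := ExpChar.prime hqp
        have h1 : ringExpChar k = q := ringExpChar.eq k q
        rw [h1] at hn
        have h2 := (Nat.Prime.pow_eq_iff hpf.out).mp hn.symm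
        obtain ⟨rfl, -⟩ := h2
        exact hq
      · subst h0
        have hz : CharZero k := CharP.charP_to_charZero k
        have h1 : ringExpChar k = 1 := ringExpChar.eq_one k
        rw [h1, one_pow] at hn
        exact absurd hn hpf.out.one_lt.ne'
    have hχk : ∀ m : (ZMod p)ˣ, ((χ m : kˣ) : k) = (((m : ZMod p).val : ℕ) : k) := by
      intro m
      have h := hχp m
      rw [CharP.cast_eq_zero k p, Ideal.span_singleton_eq_bot.mpr rfl, Ideal.mem_bot,
        sub_eq_zero] at h
      exact h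
    obtain ⟨y, hy, hyt⟩ := conn_exists p u χ hp hu hχ hχk hA
    exact field_final p u χ hp hu hχ hA hy hyt
  · obtain ⟨y, hy, hyt⟩ := etale_exists p u χ hp hu hχ hA
    exact field_final p u χ hp hu hχ hA hy hyt

end Main

end Groth.Agent.H9.OT
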