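import Mathlib
import Groth.Agent.Lib.Helper9.OT.FieldCase

/-!
# Oort–Tate: the eigenspaces commute with base change; rank one (helper9)
-/

set_option autoImplicit false
set_option linter.unusedSectionVars false

universe u v

open TensorProduct WithConv

namespace Groth.Agent.H9.OT

open Groth.Agent.H9.FinHopf

section Nakayama

variable {R : Type u} [CommRing R]

/-- a finite module which dies at all "geometric points" is zero -/
lemma subsingleton_of_forall_field (Q : Type v) [AddCommGroup Q] [Module R Q] [Module.Finite R Q]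
    (h : ∀ q : PrimeSpectrum R, ∃ (K : Type u) (_ : Field K) (_ : Algebra R K)
      (_ : Algebra q.asIdeal.ResidueField K) (_ : IsScalarTower R q.asIdeal.ResidueField K),
      Subsingleton (K ⊗[R] Q)) : Subsingleton Q := by
  rw [← Module.support_eq_empty_iff (R := R), Set.eq_empty_iff_forall_notMem]
  intro q hq
  rw [Module.mem_support_iff_nontrivial_residueField_tensorProduct] at hq
  obtain ⟨K, _, _, _, _, hK⟩ := h q
  have e := AlgebraTensorModule.cancelBaseChange R q.asIdeal.ResidueField K K Q
  have h1 : Subsingleton (K ⊗[q.asIdeal.ResidueField] (q.asIdeal.ResidueField ⊗[R] Q)) :=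
    e.toEquiv.subsingleton
  have h2 : Subsingleton (q.asIdeal.ResidueField ⊗[R] Q) :=
    Module.FaithfullyFlat.lTensor_reflects_triviality q.asIdeal.ResidueField K _
  exact not_subsingleton _ h2

/-- surjectivity can be tested on geometric points -/
lemma surjective_of_forall_field {N : Type v} {M : Type v} [AddCommGroup N] [Module R N]
    [AddCommGroup M] [Module R M] [Module.Finite R M] (f : N →ₗ[R] M)
    (h : ∀ q : PrimeSpectrum R, ∃ (K : Type u) (_ : Field K) (_ : Algebra R K)
      (_ : Algebra q.asIdeal.ResidueField K) (_ : IsScalarTower R q.asIdeal.ResidueField K),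
      Function.Surjective (f.baseChange K)) : Function.Surjective f := by
  have hQ : Subsingleton (M ⧸ LinearMap.range f) := by
    apply subsingleton_of_forall_field (R := R)
    intro q
    obtain ⟨K, i1, i2, i3, i4, hK⟩ := h q
    refine ⟨K, i1, i2, i3, i4, ?_⟩
    have hs : Function.Surjective ((LinearMap.range f).mkQ.baseChange K) := by
      have := LinearMap.lTensor_surjective K (Submodule.mkQ_surjective (LinearMap.range f))
      exact this
    constructor
    intro x y
    obtain ⟨x', rfl⟩ := hs x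
    obtain ⟨y', rfl⟩ := hs y
    obtain ⟨x'', rfl⟩ := hK x'
    obtain ⟨y'', rfl⟩ := hK y'
    have h0 : ((LinearMap.range f).mkQ.baseChange K).comp (f.baseChange K) = 0 := by
      rw [← LinearMap.baseChange_comp, LinearMap.range_mkQ_comp, LinearMap.baseChange_zero]
    have hx := LinearMap.congr_fun h0 x''
    have hy := LinearMap.congr_fun h0 y''
    rw [LinearMap.comp_apply] at hx hy
    rw [hx, hy, LinearMap.zero_apply, LinearMap.zero_apply]
  rw [← LinearMap.range_eq_top]
  exact Submodule.Quotient.subsingleton_iff.mp hQ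

end Nakayama

section BC

variable {R : Type u} [CommRing R] {A : Type u} [CommRing A] [HopfAlgebra R A]
  (S : Type u) [CommRing S] [Algebra R S]
  (p : ℕ) [Fact p.Prime] (u : R) (χ : (ZMod p)ˣ →* Rˣ)

/-- the base change of the character -/
noncomputable abbrev chiS : (ZMod p)ˣ →* Sˣ := (Units.map (algebraMap R S : R →* S)).comp χ

lemma chiS_apply (m : (ZMod p)ˣ) : ((chiS S p χ m : Sˣ) : S) = algebraMap R S ((χ m : Rˣ) : R) := rfl

lemma pw_tmul (n : ℕ) (s : S) (a : A) :
    pw S (S ⊗[R] A) n (s ⊗ₜ[R] a) = s ⊗ₜ[R] pw R A n a := by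
  have h := convPow_jmap (k := R) (A := A) S n a
  have h1 : s ⊗ₜ[R] a = s • ((1 : S) ⊗ₜ[R] a) := by
    rw [TensorProduct.smul_tmul', smul_eq_mul, mul_one]
  have h2 : s ⊗ₜ[R] pw R A n a = s • ((1 : S) ⊗ₜ[R] pw R A n a) := by
    rw [TensorProduct.smul_tmul', smul_eq_mul, mul_one]
  rw [h1, h2, map_smul]
  congr 1

include S in
lemma killed_baseChange (hp : (toConv (AlgHom.id R A) : WithConv (A →ₐ[R] A)) ^ p = 1) :
    (toConv (AlgHom.id S (S ⊗[R] A)) : WithConv ((S ⊗[R] A) →ₐ[S] (S ⊗[R] A))) ^ p = 1 := by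
  have h0 : pw R A p = pw R A 0 := by
    unfold pw
    rw [hp, pow_zero]
  apply WithConv.ofConv_injective
  apply AlgHom.ext
  intro x
  show pw S (S ⊗[R] A) p x = pw S (S ⊗[R] A) 0 x
  induction x using TensorProduct.induction_on with
  | zero => rw [map_zero, map_zero]
  | tmul s a => rw [pw_tmul, pw_tmul, h0]
  | add x y hx hy => rw [map_add, map_add, hx, hy]

lemma algebraMap_smul_tmul (r : R) (s : S) (a : A) :
    (algebraMap R S r) • (s ⊗ₜ[R] a) = s ⊗ₜ[R] (r • a) := by
  rw [TensorProduct.smul_tmul', smul_eq_mul, ← Algebra.smul_def, TensorProduct.smul_tmul]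

lemma proj_tmul (i : ℕ) (s : S) (a : A) :
    OortTate.proj S (S ⊗[R] A) p (algebraMap R S u) (chiS S p χ) i (s ⊗ₜ[R] a) =
      s ⊗ₜ[R] OortTate.proj R A p u χ i a := by
  rw [proj_apply, proj_apply, ← algebraMap_smul_tmul]
  congr 1
  rw [TensorProduct.tmul_sum]
  apply Finset.sum_congr rfl
  intro m _
  rw [pw_tmul, chiS_apply, ← map_pow, algebraMap_smul_tmul]

lemma augProj_tmul (i : ℕ) (s : S) (a : A) :
    augProj (S ⊗[R] A) p (algebraMap R S u) (chiS S p χ) i (s ⊗ₜ[R] a) =
      s ⊗ₜ[R] augProj A p u χ i a := by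
  rw [augProj_apply, augProj_apply, pw_tmul, ← TensorProduct.tmul_sub, proj_tmul]

lemma augProj_baseChange (i : ℕ) :
    augProj (S ⊗[R] A) p (algebraMap R S u) (chiS S p χ) i =
      (augProj A p u χ i).baseChange S := by
  apply LinearMap.ext
  intro x
  induction x using TensorProduct.induction_on with
  | zero => rw [map_zero, map_zero]
  | tmul s a => rw [augProj_tmul, LinearMap.baseChange_tmul]
  | add x y hx hy => rw [map_add, map_add, hx, hy]

lemma range_baseChange' {M N : Type*} [AddCommGroup M] [Module R M] [AddCommGroup N] [Module R N]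
    (f : M →ₗ[R] N) :
    LinearMap.range (f.baseChange S) = (LinearMap.range f).baseChange S := by
  apply le_antisymm
  · rintro _ ⟨x, rfl⟩
    induction x using TensorProduct.induction_on with
    | zero => rw [map_zero]; exact Submodule.zero_mem _
    | tmul s a =>
      rw [LinearMap.baseChange_tmul]
      exact Submodule.tmul_mem_baseChange_of_mem s ⟨a, rfl⟩
    | add x y hx hy => rw [map_add]; exact Submodule.add_mem _ hx hy
  · rw [Submodule.baseChange_eq_span, Submodule.span_le]
    rintro _ ⟨_, ⟨a, rfl⟩, rfl⟩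
    exact ⟨(1 : S) ⊗ₜ[R] a, by rw [LinearMap.baseChange_tmul]; rfl⟩

variable (hp : (toConv (AlgHom.id R A) : WithConv (A →ₐ[R] A)) ^ p = 1)
  (hu : u * ((p - 1 : ℕ) : R) = 1)
  (hχ : ∀ m : (ZMod p)ˣ, m ≠ 1 → IsUnit ((χ m : R) - 1))

include hu in
lemma hu_baseChange : algebraMap R S u * ((p - 1 : ℕ) : S) = 1 := by
  rw [← map_natCast (algebraMap R S), ← map_mul, hu, map_one]

include hχ in
lemma hχ_baseChange : ∀ m : (ZMod p)ˣ, m ≠ 1 → IsUnit ((chiS S p χ m : S) - 1) := by
  intro m hm
  have := (hχ m hm).map (algebraMap R S)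
  rwa [map_sub, map_one] at this

lemma hχp_baseChange
    (hχp : ∀ m : (ZMod p)ˣ, ((χ m : Rˣ) : R) - (((m : ZMod p).val : ℕ) : R) ∈
      Ideal.span ({(p : R)} : Set R)) :
    ∀ m : (ZMod p)ˣ, ((chiS S p χ m : Sˣ) : S) - (((m : ZMod p).val : ℕ) : S) ∈
      Ideal.span ({(p : S)} : Set S) := by
  intro m
  have h := Ideal.mem_map_of_mem (algebraMap R S) (hχp m)
  rw [Ideal.map_span, Set.image_singleton, map_natCast, map_sub, map_natCast] at h
  exact h

include hp hu hχ in
theorem eigenAug_baseChange (i : ℕ) :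
    OortTate.eigenAug S (S ⊗[R] A) p (chiS S p χ) i =
      (OortTate.eigenAug R A p χ i).baseChange S := by
  rw [← range_augProj (S ⊗[R] A) p (algebraMap R S u) (chiS S p χ) (killed_baseChange S p hp)
    (hu_baseChange S p u hu) (hχ_baseChange S p χ hχ) i,
    ← range_augProj A p u χ hp hu hχ i, augProj_baseChange, range_baseChange']

end BC

section SubmoduleBC

variable {R : Type u} [CommRing R] {A : Type u} [CommRing A] [Algebra R A]
  (S : Type u) [CommRing S] [Algebra R S]

lemma baseChange_mul (M N : Submodule R A) :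
    (M * N).baseChange S = M.baseChange S * N.baseChange S := by
  rw [Submodule.mul_eq_span_mul_set, Submodule.baseChange_span, Submodule.baseChange_eq_span,
    Submodule.baseChange_eq_span, Submodule.span_mul_span]
  congr 1
  have h : ∀ X : Set A, (TensorProduct.mk R S A 1) '' X =
      (Algebra.TensorProduct.includeRight : A →ₐ[R] S ⊗[R] A) '' X := fun X => rfl
  rw [Submodule.map_coe, Submodule.map_coe, h, h, h]
  exact Set.image_mul (Algebra.TensorProduct.includeRight : A →ₐ[R] S ⊗[R] A)

lemma baseChange_pow (N : Submodule R A) (t : ℕ) :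
    (N ^ t).baseChange S = (N.baseChange S) ^ t := by
  induction t with
  | zero =>
    rw [pow_zero, pow_zero, Submodule.one_eq_span, Submodule.one_eq_span,
      Submodule.baseChange_span, Set.image_singleton]
    rfl
  | succ t ih => rw [pow_succ, pow_succ, baseChange_mul, ih]

end SubmoduleBC

section Global

variable {R : Type u} [CommRing R] {A : Type u} [CommRing A] [HopfAlgebra R A]
  [Module.Finite R A] [Module.Projective R A]
  (p : ℕ) [Fact p.Prime] (u : R) (χ : (ZMod p)ˣ →* Rˣ)
  (hp : (toConv (AlgHom.id R A) : WithConv (A →ₐ[R] A)) ^ p = 1)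
  (hu : u * ((p - 1 : ℕ) : R) = 1)
  (hχ : ∀ m : (ZMod p)ˣ, m ≠ 1 → IsUnit ((χ m : R) - 1))

/-- the retraction of `A` onto the eigenspace `I_i` -/
noncomputable def augRetr (i : ℕ) : A →ₗ[R] OortTate.eigenAug R A p χ i :=
  LinearMap.codRestrict _ (augProj A p u χ i) (augProj_mem A p u χ hp hu hχ i)

lemma augRetr_coe (i : ℕ) (a : A) :
    ((augRetr p u χ hp hu hχ i a : OortTate.eigenAug R A p χ i) : A) = augProj A p u χ i a := rfl

lemma augRetr_comp_subtype (i : ℕ) :
    (augRetr p u χ hp hu hχ i).comp (OortTate.eigenAug R A p χ i).subtype = LinearMap.id := by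
  apply LinearMap.ext
  intro a
  apply Subtype.ext
  rw [LinearMap.comp_apply, augRetr_coe, Submodule.subtype_apply,
    augProj_of_mem A p u χ hp hu i _ a.2]
  rfl

include hp hu hχ in
lemma finite_eigenAug (i : ℕ) : Module.Finite R (OortTate.eigenAug R A p χ i) := by
  apply Module.Finite.of_surjective (augRetr p u χ hp hu hχ i)
  intro a
  refine ⟨a, ?_⟩
  have := LinearMap.congr_fun (augRetr_comp_subtype p u χ hp hu hχ i) a
  exact this

include hp hu hχ in
lemma projective_eigenAug (i : ℕ) : Module.Projective R (OortTate.eigenAug R A p χ i) :=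
  Module.Projective.of_split (OortTate.eigenAug R A p χ i).subtype (augRetr p u χ hp hu hχ i)
    (augRetr_comp_subtype p u χ hp hu hχ i)

include hp hu hχ in
lemma subtype_baseChange_injective (S : Type u) [CommRing S] [Algebra R S] (i : ℕ) :
    Function.Injective ((OortTate.eigenAug R A p χ i).subtype.baseChange S) := by
  have h : ((augRetr p u χ hp hu hχ i).baseChange S).comp
      ((OortTate.eigenAug R A p χ i).subtype.baseChange S) = LinearMap.id := by
    rw [← LinearMap.baseChange_comp, augRetr_comp_subtype, LinearMap.baseChange_id]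
  intro x y hxy
  have := congrArg ((augRetr p u χ hp hu hχ i).baseChange S) hxy
  rw [← LinearMap.comp_apply, ← LinearMap.comp_apply, h] at this
  exact this

variable (hχp : ∀ m : (ZMod p)ˣ, ((χ m : Rˣ) : R) - (((m : ZMod p).val : ℕ) : R) ∈
  Ideal.span ({(p : R)} : Set R))
  (hrk : ∀ q : PrimeSpectrum R, Module.rankAtStalk A q = p)

include hrk in
lemma finrank_baseChange_field (K : Type u) [Field K] [Algebra R K] :
    Module.finrank K (K ⊗[R] A) = p := by
  have h1 := Module.rankAtStalk_baseChange (R := R) (M := A) (S := K) ⟨⊥, Ideal.isPrime_bot⟩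
  rw [hrk] at h1
  have h2 := congrFun (Module.rankAtStalk_eq_finrank_of_free (R := K) (M := K ⊗[R] A))
    ⟨⊥, Ideal.isPrime_bot⟩
  rw [h1] at h2
  exact h2.symm

include hp hu hχ hχp hrk in
/-- the eigenspaces over a geometric point -/
lemma field_case_baseChange (K : Type u) [Field K] [IsAlgClosed K] [Algebra R K] :
    (∀ i : ℕ, Module.finrank K (OortTate.eigenAug K (K ⊗[R] A) p (chiS K p χ) i) = 1) ∧
      ∀ t, 1 ≤ t → t ≤ p - 1 →
        (OortTate.eigenAug K (K ⊗[R] A) p (chiS K p χ) 1) ^ t =
          OortTate.eigenAug K (K ⊗[R] A) p (chiS K p χ) t :=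
  field_case p (algebraMap R K u) (chiS K p χ) (hu_baseChange K p u hu)
    (hχ_baseChange K p χ hχ) (hχp_baseChange K p χ hχp) (finrank_baseChange_field p hrk K)

include hp hu hχ hχp hrk in
theorem rankAtStalk_eigenAug (i : ℕ) (q : PrimeSpectrum R) :
    Module.rankAtStalk (↥(OortTate.eigenAug R A p χ i)) q = 1 := by
  have hfin := finite_eigenAug p u χ hp hu hχ i
  have hproj := projective_eigenAug p u χ hp hu hχ i
  let K := AlgebraicClosure q.asIdeal.ResidueField
  have hq : (⟨⊥, Ideal.isPrime_bot⟩ : PrimeSpectrum K).comap (algebraMap R K) = q := by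
    apply PrimeSpectrum.ext
    show Ideal.comap (algebraMap R K) ⊥ = q.asIdeal
    rw [IsScalarTower.algebraMap_eq R q.asIdeal.ResidueField K, ← Ideal.comap_comap]
    have : Ideal.comap (algebraMap q.asIdeal.ResidueField K) ⊥ = ⊥ := by
      rw [← RingHom.ker_eq_comap_bot]
      exact (RingHom.injective_iff_ker_eq_bot _).mp (algebraMap q.asIdeal.ResidueField K).injective
    rw [this, ← RingHom.ker_eq_comap_bot, Ideal.ker_algebraMap_residueField]
  have h1 := Module.rankAtStalk_baseChange (R := R) (M := ↥(OortTate.eigenAug R A p χ i))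
    (S := K) ⟨⊥, Ideal.isPrime_bot⟩
  rw [hq] at h1
  rw [← h1]
  have h2 := congrFun (Module.rankAtStalk_eq_finrank_of_free (R := K)
    (M := K ⊗[R] ↥(OortTate.eigenAug R A p χ i))) ⟨⊥, Ideal.isPrime_bot⟩
  rw [h2]
  have hinj := subtype_baseChange_injective p u χ hp hu hχ K i
  have e : (K ⊗[R] ↥(OortTate.eigenAug R A p χ i)) ≃ₗ[K]
      ↥(LinearMap.range ((OortTate.eigenAug R A p χ i).subtype.baseChange K)) :=
    LinearEquiv.ofInjective _ hinj
  rw [e.finrank_eq]
  have h3 : LinearMap.range ((OortTate.eigenAug R A p χ i).subtype.baseChange K) =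
      OortTate.eigenAug K (K ⊗[R] A) p (chiS K p χ) i :=
    (eigenAug_baseChange K p u χ hp hu hχ i).symm
  rw [h3]
  exact (field_case_baseChange p u χ hp hu hχ hχp hrk K).1 i

include hp hu hχ hχp hrk in
theorem eigenAug_pow_eq (t : ℕ) (ht1 : 1 ≤ t) (ht2 : t ≤ p - 1) :
    (OortTate.eigenAug R A p χ 1) ^ t = OortTate.eigenAug R A p χ t := by
  apply le_antisymm (pow_le_eigenAug t ht1)
  have hfin := finite_eigenAug p u χ hp hu hχ t
  have hsurj : Function.Surjective (Submodule.inclusion (pow_le_eigenAug (R := R) (A := A)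
      (p := p) (χ := χ) t ht1)) := by
    apply surjective_of_forall_field
    intro q
    let K := AlgebraicClosure q.asIdeal.ResidueField
    refine ⟨K, inferInstance, inferInstance, inferInstance, inferInstance, ?_⟩
    intro z
    have hz : (OortTate.eigenAug R A p χ t).subtype.baseChange K z ∈
        (OortTate.eigenAug R A p χ t).baseChange K := ⟨z, rfl⟩
    rw [← eigenAug_baseChange K p u χ hp hu hχ t,
      ← (field_case_baseChange p u χ hp hu hχ hχp hrk K).2 t ht1 ht2,
      eigenAug_baseChange K p u χ hp hu hχ 1, ← baseChange_pow] at hz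
    obtain ⟨w, hw⟩ := hz
    refine ⟨w, ?_⟩
    apply subtype_baseChange_injective p u χ hp hu hχ K t
    rw [← hw, ← LinearMap.comp_apply, ← LinearMap.baseChange_comp]
    rfl
  intro x hx
  obtain ⟨y, hy⟩ := hsurj ⟨x, hx⟩
  have : (y : A) = x := congrArg Subtype.val hy
  rw [← this]
  exact y.2

end Global

end Groth.Agent.H9.OT
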