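import Mathlib
import Groth.Prelude.Def_CartDual2
import Groth.Agent.Lib.Helper9.FinHopf.KillOrder

/-!
# The dual of a finite projective Hopf algebra commutes with base change (helper9)
-/

set_option autoImplicit false
set_option linter.unusedSectionVars false

universe u v w

open TensorProduct WithConv

namespace Groth.Agent.H9.OT

open CartDual Groth.Agent.H9.FinHopf

section DualBasis

variable (R : Type u) [CommRing R] (N : Type v) [AddCommGroup N] [Module R N]
  [Module.Finite R N] [Module.Projective R N]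

/-- a finite dual basis of a finitely generated projective module -/
lemma exists_dualBasis :
    ∃ (n : ℕ) (e : Fin n → N) (ξ : Fin n → (N →ₗ[R] R)), ∀ x : N, x = ∑ i, ξ i x • e i := by
  obtain ⟨n, f, g, -, -, hfg⟩ := Module.Finite.exists_comp_eq_id_of_projective R N
  refine ⟨n, fun i => f (Pi.single i 1), fun i => (LinearMap.proj i).comp g, ?_⟩
  intro x
  have h1 : x = f (g x) := by
    have := LinearMap.congr_fun hfg x
    exact this.symm
  conv_lhs => rw [h1]
  have h2 : g x = ∑ i, (g x i) • (Pi.single i (1 : R) : Fin n → R) := by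
    funext j
    simp [Finset.sum_apply, Pi.single_apply]
  conv_lhs => rw [h2]
  rw [map_sum]
  apply Finset.sum_congr rfl
  intro i _
  rw [map_smul]
  rfl

end DualBasis

section Psi

variable (R : Type u) [CommRing R] (A : Type v) [CommRing A] [HopfAlgebra R A]
  [Module.Finite R A] [Module.Projective R A] (K : Type w) [CommRing K] [Algebra R K]

/-- the base change of a linear form -/
noncomputable def formBC : (A →ₗ[R] R) →ₗ[R] ((K ⊗[R] A) →ₗ[K] K) where
  toFun ξ := (Algebra.TensorProduct.rid R K K).toLinearMap.comp (ξ.baseChange K)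
  map_add' ξ η := by
    rw [LinearMap.baseChange_add, LinearMap.comp_add]
  map_smul' r ξ := by
    rw [LinearMap.baseChange_smul, RingHom.id_apply]
    apply LinearMap.ext
    intro x
    show (AlgebraTensorModule.rid R K K) (r • (LinearMap.baseChange K ξ) x) =
      r • (AlgebraTensorModule.rid R K K) ((LinearMap.baseChange K ξ) x)
    exact (AlgebraTensorModule.rid R K K).toLinearMap.map_smul_of_tower r _

lemma formBC_tmul (ξ : A →ₗ[R] R) (s : K) (a : A) :
    formBC R A K ξ (s ⊗ₜ[R] a) = ξ a • s := by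
  unfold formBC
  simp [LinearMap.baseChange_tmul]

instance instIsScalarTowerDK : IsScalarTower R K (D K (K ⊗[R] A)) :=
  ⟨fun r s η => by
    apply WithConv.ext
    show (r • s) • η.ofConv = r • (s • η.ofConv)
    rw [smul_assoc]⟩

/-- `K ⊗ A^D → (K ⊗ A)^D` -/
noncomputable def psiLin : K ⊗[R] D R A →ₗ[K] D K (K ⊗[R] A) :=
  LinearMap.liftBaseChange K
    ((WithConv.linearEquiv R ((K ⊗[R] A) →ₗ[K] K)).symm.toLinearMap ∘ₗ (formBC R A K) ∘ₗ
      (WithConv.linearEquiv R (A →ₗ[R] R)).toLinearMap)

lemma psiLin_tmul (s : K) (ξ : D R A) (t : K) (a : A) :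
    (psiLin R A K (s ⊗ₜ[R] ξ)).ofConv (t ⊗ₜ[R] a) = s * (ξ.ofConv a • t) := by
  unfold psiLin
  rw [LinearMap.liftBaseChange_tmul]
  show (s • (formBC R A K ξ.ofConv)) (t ⊗ₜ[R] a) = _
  rw [LinearMap.smul_apply, formBC_tmul, smul_eq_mul]

theorem psiLin_bijective : Function.Bijective (psiLin R A K) := by
  obtain ⟨n, e, ξ, hx⟩ := exists_dualBasis R A
  let inv : D K (K ⊗[R] A) → K ⊗[R] D R A := fun η =>
    ∑ i, (η.ofConv ((1 : K) ⊗ₜ[R] e i)) ⊗ₜ[R] (toConv (ξ i) : D R A)
  have hl : Function.LeftInverse inv (psiLin R A K) := by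
    intro z
    induction z using TensorProduct.induction_on with
    | zero =>
      show ∑ i, _ = 0
      simp
    | tmul s ζ =>
      show ∑ i, ((psiLin R A K (s ⊗ₜ[R] ζ)).ofConv ((1 : K) ⊗ₜ[R] e i)) ⊗ₜ[R]
        (toConv (ξ i) : D R A) = _
      have h1 : ∀ i, ((psiLin R A K (s ⊗ₜ[R] ζ)).ofConv ((1 : K) ⊗ₜ[R] e i)) ⊗ₜ[R]
          (toConv (ξ i) : D R A) = s ⊗ₜ[R] (ζ.ofConv (e i) • (toConv (ξ i) : D R A)) := by
        intro i
        rw [psiLin_tmul, TensorProduct.tmul_smul, TensorProduct.smul_tmul']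
        congr 1
        rw [Algebra.smul_def, mul_one, Algebra.smul_def, mul_comm]
      rw [Finset.sum_congr rfl (fun i _ => h1 i), ← TensorProduct.tmul_sum]
      congr 1
      apply WithConv.ext
      apply LinearMap.ext
      intro a
      rw [WithConv.ofConv_sum, LinearMap.sum_apply]
      conv_rhs => rw [hx a, map_sum]
      apply Finset.sum_congr rfl
      intro i _
      rw [map_smul, smul_eq_mul, mul_comm]
      rfl
    | add z z' hz hz' =>
      have : inv (psiLin R A K (z + z')) = inv (psiLin R A K z) + inv (psiLin R A K z') := by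
        show ∑ i, _ = ∑ i, _ + ∑ i, _
        rw [← Finset.sum_add_distrib]
        apply Finset.sum_congr rfl
        intro i _
        rw [map_add, WithConv.ofConv_add, LinearMap.add_apply, TensorProduct.add_tmul]
      rw [this, hz, hz']
  have hr : Function.RightInverse inv (psiLin R A K) := by
    intro η
    apply WithConv.ext
    apply LinearMap.ext
    intro x
    show (psiLin R A K (∑ i, (η.ofConv ((1 : K) ⊗ₜ[R] e i)) ⊗ₜ[R]
      (toConv (ξ i) : D R A))).ofConv x = η.ofConv x
    induction x using TensorProduct.induction_on with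
    | zero => rw [map_zero, map_zero]
    | tmul t a =>
      rw [map_sum, WithConv.ofConv_sum, LinearMap.sum_apply]
      have h1 : ∀ i, (psiLin R A K ((η.ofConv ((1 : K) ⊗ₜ[R] e i)) ⊗ₜ[R]
          (toConv (ξ i) : D R A))).ofConv (t ⊗ₜ[R] a) =
          η.ofConv (t ⊗ₜ[R] (ξ i a • e i)) := by
        intro i
        rw [psiLin_tmul, TensorProduct.tmul_smul, LinearMap.map_smul_of_tower]
        have h2 : t ⊗ₜ[R] e i = t • ((1 : K) ⊗ₜ[R] e i) := by
          rw [TensorProduct.smul_tmul', smul_eq_mul, mul_one]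
        rw [h2, map_smul, smul_eq_mul, Algebra.smul_def, Algebra.smul_def]
        show η.ofConv ((1 : K) ⊗ₜ[R] e i) * (algebraMap R K ((ξ i) a) * t) = _
        ring
      rw [Finset.sum_congr rfl (fun i _ => h1 i), ← map_sum, ← TensorProduct.tmul_sum, ← hx a]
    | add x y hx' hy' => rw [map_add, map_add, hx', hy']
  exact ⟨hl.injective, hr.surjective⟩

instance instRightDistribClassKD : RightDistribClass (K ⊗[R] D R A) := by
  let _ : Semiring (K ⊗[R] D R A) := inferInstance
  infer_instance

instance instLeftDistribClassKD : LeftDistribClass (K ⊗[R] D R A) := by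
  let _ : Semiring (K ⊗[R] D R A) := inferInstance
  infer_instance

noncomputable instance instMulZeroClassKD : MulZeroClass (K ⊗[R] D R A) := by
  let _ : Semiring (K ⊗[R] D R A) := inferInstance
  infer_instance

lemma psiLin_tmul_jmap (s : K) (ξ : D R A) (a : A) :
    (psiLin R A K (s ⊗ₜ[R] ξ)).ofConv ((1 : K) ⊗ₜ[R] a) = s * algebraMap R K (ξ.ofConv a) := by
  rw [psiLin_tmul, Algebra.smul_def, mul_one]

lemma ext_jmap (F G : D K (K ⊗[R] A))
    (h : ∀ a : A, F.ofConv ((1 : K) ⊗ₜ[R] a) = G.ofConv ((1 : K) ⊗ₜ[R] a)) : F = G := by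
  apply WithConv.ext
  apply LinearMap.ext
  intro x
  induction x using TensorProduct.induction_on with
  | zero => rw [map_zero, map_zero]
  | tmul t a =>
    have h2 : t ⊗ₜ[R] a = t • ((1 : K) ⊗ₜ[R] a) := by
      rw [TensorProduct.smul_tmul', smul_eq_mul, mul_one]
    rw [h2, map_smul, map_smul, h]
  | add x y hx hy => rw [map_add, map_add, hx, hy]

lemma psiLin_one : psiLin R A K 1 = 1 := by
  apply ext_jmap
  intro a
  rw [Algebra.TensorProduct.one_def, psiLin_tmul_jmap, one_mul, LinearMap.convOne_apply,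
    LinearMap.convOne_apply]
  have h := counit_jmap (k := R) (A := A) K a
  have h' : CoalgebraStruct.counit (R := K) ((1 : K) ⊗ₜ[R] a) =
      algebraMap R K (CoalgebraStruct.counit (R := R) a) := h
  rw [h']
  rfl

lemma psiLin_tmul_mul (s t : K) (ξ ζ : D R A) :
    psiLin R A K ((s ⊗ₜ[R] ξ) * (t ⊗ₜ[R] ζ)) =
      psiLin R A K (s ⊗ₜ[R] ξ) * psiLin R A K (t ⊗ₜ[R] ζ) := by
  apply ext_jmap
  intro a
  rw [Algebra.TensorProduct.tmul_mul_tmul, psiLin_tmul_jmap, LinearMap.convMul_apply,
    LinearMap.convMul_apply]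
  have h := comul_jmap (k := R) (A := A) K a
  have h' : CoalgebraStruct.comul (R := K) ((1 : K) ⊗ₜ[R] a) =
      jmap₂ (k := R) K (CoalgebraStruct.comul (R := R) a) := h
  rw [h']
  generalize CoalgebraStruct.comul (R := R) a = c
  induction c using TensorProduct.induction_on with
  | zero => simp
  | tmul x y =>
    rw [jmap₂_tmul, TensorProduct.map_tmul, TensorProduct.map_tmul, LinearMap.mul'_apply,
      LinearMap.mul'_apply, psiLin_tmul_jmap, psiLin_tmul_jmap, map_mul]
    ring
  | add c c' hc hc' =>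
    simp only [map_add, mul_add, hc, hc']

lemma psiLin_mul (z z' : K ⊗[R] D R A) :
    psiLin R A K (z * z') = psiLin R A K z * psiLin R A K z' := by
  induction z using TensorProduct.induction_on with
  | zero => rw [zero_mul, map_zero, zero_mul]
  | tmul s ξ =>
    induction z' using TensorProduct.induction_on with
    | zero => rw [mul_zero, map_zero, mul_zero]
    | tmul t ζ => exact psiLin_tmul_mul R A K s t ξ ζ
    | add w w' hw hw' => rw [mul_add, map_add, hw, hw', map_add, mul_add]
  | add w w' hw hw' => rw [add_mul, map_add, hw, hw', map_add, add_mul]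

/-- `K ⊗ A^D ≃ (K ⊗ A)^D` as `K`-algebras -/
noncomputable def psiAlg : K ⊗[R] D R A ≃ₐ[K] D K (K ⊗[R] A) :=
  AlgEquiv.ofLinearEquiv (LinearEquiv.ofBijective (psiLin R A K) (psiLin_bijective R A K))
    (psiLin_one R A K) (psiLin_mul R A K)

lemma psiAlg_apply (z : K ⊗[R] D R A) : psiAlg R A K z = psiLin R A K z := rfl

end Psi

end Groth.Agent.H9.OT
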