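import Mathlib

/-!
# The generic element trick (helper9)

A finite free algebra `E` over a ring `R` all of whose non-units die in a field `K` over which
`K ⊗ E` is generated by one element is commutative.
-/

set_option autoImplicit false
set_option linter.unusedSectionVars false

universe u v w

open TensorProduct

namespace Groth.Agent.H9.OT

/-- elements of the span of a commuting family commute -/
lemma commute_of_mem_span' {S : Type*} [CommRing S] {D : Type*} [Ring D] [Algebra S D] {T : Set D}
    (hT : ∀ a ∈ T, ∀ b ∈ T, a * b = b * a) {x y : D} (hx : x ∈ Submodule.span S T)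
    (hy : y ∈ Submodule.span S T) : x * y = y * x := by
  induction hx using Submodule.span_induction with
  | mem a ha =>
    induction hy using Submodule.span_induction with
    | mem b hb => exact hT a ha b hb
    | zero => rw [mul_zero, zero_mul]
    | add u v _ _ hu hv => rw [mul_add, add_mul, hu, hv]
    | smul c u _ hu => rw [mul_smul_comm, smul_mul_assoc, hu]
  | zero => rw [mul_zero, zero_mul]
  | add u v _ _ hu hv => rw [mul_add, add_mul, hu, hv]
  | smul c u _ hu => rw [mul_smul_comm, smul_mul_assoc, hu]

section Generic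

variable {R : Type u} [CommRing R] {E : Type v} [Ring E] [Algebra R E]

/-- the generic element -/
noncomputable def genElt {n : ℕ} (b : Module.Basis (Fin n) R E) :
    MvPolynomial (Fin n) R ⊗[R] E :=
  ∑ i, (MvPolynomial.X i : MvPolynomial (Fin n) R) ⊗ₜ[R] b i

/-- the coordinate matrix of the powers of the generic element -/
noncomputable def genMat {n : ℕ} (b : Module.Basis (Fin n) R E) :
    Matrix (Fin n) (Fin n) (MvPolynomial (Fin n) R) :=
  fun j i => (b.baseChange (MvPolynomial (Fin n) R)).repr (genElt b ^ (j : ℕ)) i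

lemma genElt_pow_eq {n : ℕ} (b : Module.Basis (Fin n) R E) (j : Fin n) :
    genElt b ^ (j : ℕ) = ∑ i, genMat b j i • (b.baseChange (MvPolynomial (Fin n) R)) i :=
  ((b.baseChange (MvPolynomial (Fin n) R)).sum_repr _).symm

lemma det_smul_basis_mem {n : ℕ} (b : Module.Basis (Fin n) R E) (i : Fin n) :
    (genMat b).det • (b.baseChange (MvPolynomial (Fin n) R)) i ∈
      Submodule.span (MvPolynomial (Fin n) R) (Set.range fun j : Fin n => genElt b ^ (j : ℕ)) := by
  classical
  have h1 : (genMat b).det • (b.baseChange (MvPolynomial (Fin n) R)) i =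
      ∑ j, (genMat b).adjugate i j • genElt b ^ (j : ℕ) := by
    have h2 : ∀ j : Fin n, (genMat b).adjugate i j • genElt b ^ (j : ℕ) =
        ∑ l, ((genMat b).adjugate i j * genMat b j l) •
          (b.baseChange (MvPolynomial (Fin n) R)) l := by
      intro j
      rw [genElt_pow_eq, Finset.smul_sum]
      apply Finset.sum_congr rfl
      intro l _
      rw [smul_smul]
    rw [Finset.sum_congr rfl (fun j _ => h2 j), Finset.sum_comm]
    have h3 : ∀ l : Fin n, ∑ j, ((genMat b).adjugate i j * genMat b j l) •
        (b.baseChange (MvPolynomial (Fin n) R)) l =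
        (((genMat b).adjugate * genMat b) i l) • (b.baseChange (MvPolynomial (Fin n) R)) l := by
      intro l
      rw [← Finset.sum_smul, Matrix.mul_apply]
    rw [Finset.sum_congr rfl (fun l _ => h3 l), Matrix.adjugate_mul]
    rw [Finset.sum_eq_single i]
    · rw [Matrix.smul_apply, Matrix.one_apply_eq, smul_eq_mul, mul_one]
    · intro l _ hl
      rw [Matrix.smul_apply, Matrix.one_apply_ne hl.symm, smul_zero, zero_smul]
    · intro h
      exact absurd (Finset.mem_univ i) h
  rw [h1]
  apply Submodule.sum_mem
  intro j _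
  exact Submodule.smul_mem _ _ (Submodule.subset_span ⟨j, rfl⟩)

lemma det_smul_mem {n : ℕ} (b : Module.Basis (Fin n) R E) (x : MvPolynomial (Fin n) R ⊗[R] E) :
    (genMat b).det • x ∈
      Submodule.span (MvPolynomial (Fin n) R) (Set.range fun j : Fin n => genElt b ^ (j : ℕ)) := by
  rw [← (b.baseChange (MvPolynomial (Fin n) R)).sum_repr x, Finset.smul_sum]
  apply Submodule.sum_mem
  intro i _
  rw [smul_comm]
  exact Submodule.smul_mem _ _ (det_smul_basis_mem b i)

lemma det_sq_smul_comm {n : ℕ} (b : Module.Basis (Fin n) R E)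
    (x y : MvPolynomial (Fin n) R ⊗[R] E) :
    ((genMat b).det * (genMat b).det) • (x * y - y * x) = 0 := by
  have h := commute_of_mem_span' (S := MvPolynomial (Fin n) R)
    (T := Set.range fun j : Fin n => genElt b ^ (j : ℕ))
    (by
      rintro _ ⟨i, rfl⟩ _ ⟨j, rfl⟩
      exact (Commute.pow_pow (Commute.refl (genElt b)) _ _).eq)
    (det_smul_mem b x) (det_smul_mem b y)
  rw [smul_mul_smul_comm, smul_mul_smul_comm] at h
  rw [smul_sub, h, sub_self]

/-- specialising the generic element -/
lemma spec_pow {n : ℕ} (b : Module.Basis (Fin n) R E) {K : Type w} [Field K] [Algebra R K]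
    (a : Fin n → K) (j : Fin n) :
    (∑ i, a i ⊗ₜ[R] b i : K ⊗[R] E) ^ (j : ℕ) =
      ∑ i, (MvPolynomial.aeval a (genMat b j i)) • (b.baseChange K) i := by
  set φ : MvPolynomial (Fin n) R →ₐ[R] K := MvPolynomial.aeval a with hφ
  set Φ : MvPolynomial (Fin n) R ⊗[R] E →ₐ[R] K ⊗[R] E :=
    Algebra.TensorProduct.map φ (AlgHom.id R E) with hΦ
  have h1 : Φ (genElt b) = ∑ i, a i ⊗ₜ[R] b i := by
    unfold genElt
    rw [map_sum]
    apply Finset.sum_congr rfl
    intro i _
    rw [hΦ, Algebra.TensorProduct.map_tmul, hφ, MvPolynomial.aeval_X]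
    rfl
  have h2 : ∀ (s : MvPolynomial (Fin n) R) (w : MvPolynomial (Fin n) R ⊗[R] E),
      Φ (s • w) = φ s • Φ w := by
    intro s w
    induction w using TensorProduct.induction_on with
    | zero => rw [smul_zero, map_zero, smul_zero]
    | tmul t e =>
      rw [TensorProduct.smul_tmul', hΦ, Algebra.TensorProduct.map_tmul,
        Algebra.TensorProduct.map_tmul, TensorProduct.smul_tmul', smul_eq_mul, smul_eq_mul,
        map_mul]
    | add w w' hw hw' => rw [smul_add, map_add, hw, hw', map_add, smul_add]
  rw [← h1, ← map_pow, genElt_pow_eq, map_sum]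
  apply Finset.sum_congr rfl
  intro i _
  rw [h2, Module.Basis.baseChange_apply, Module.Basis.baseChange_apply, hΦ,
    Algebra.TensorProduct.map_tmul, map_one]
  rfl

/-- **The generic element trick.** -/
theorem commutative_of_generic {n : ℕ} (b : Module.Basis (Fin n) R E)
    (K : Type w) [Field K] [Algebra R K] (hK : ∀ r : R, ¬ IsUnit r → algebraMap R K r = 0)
    (η : K ⊗[R] E)
    (hη : Submodule.span K (Set.range fun j : Fin n => η ^ (j : ℕ)) = ⊤) (x y : E) :
    x * y = y * x := by
  classical
  set BK := b.baseChange K with hBK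
  set a : Fin n → K := fun i => BK.repr η i with ha
  have hηa : η = ∑ i, a i ⊗ₜ[R] b i := by
    conv_lhs => rw [← BK.sum_repr η]
    apply Finset.sum_congr rfl
    intro i _
    rw [hBK, Module.Basis.baseChange_apply, TensorProduct.smul_tmul', smul_eq_mul, mul_one]
  set φ : MvPolynomial (Fin n) R →ₐ[R] K := MvPolynomial.aeval a with hφ
  -- the determinant does not vanish at `a`
  have hli : LinearIndependent K (fun j : Fin n => η ^ (j : ℕ)) := by
    apply linearIndependent_of_top_le_span_of_card_eq_finrank hη.ge
    rw [Module.finrank_eq_card_basis BK]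
  have hunit := (Module.Basis.is_basis_iff_det BK).mp ⟨hli, hη⟩
  have hdet : BK.det (fun j : Fin n => η ^ (j : ℕ)) = φ (genMat b).det := by
    rw [Module.Basis.det_apply, ← Matrix.det_transpose, AlgHom.map_det]
    congr 1
    ext j i
    rw [Matrix.transpose_apply, Module.Basis.toMatrix_apply, hηa, spec_pow b a j]
    rw [map_sum, Finset.sum_apply']
    rw [Finset.sum_eq_single i]
    · rw [map_smul, Finsupp.smul_apply, Module.Basis.repr_self, Finsupp.single_eq_same,
        smul_eq_mul, mul_one]
      rfl
    · intro l _ hl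
      rw [map_smul, Finsupp.smul_apply, Module.Basis.repr_self, Finsupp.single_eq_of_ne hl.symm,
        smul_zero]
    · intro h
      exact absurd (Finset.mem_univ i) h
  rw [hdet] at hunit
  set Q := (genMat b).det * (genMat b).det with hQ
  have hQ0 : φ Q ≠ 0 := by
    rw [hQ, map_mul]
    exact mul_ne_zero hunit.ne_zero hunit.ne_zero
  -- a unit coefficient
  have hcoeff : ∃ m, IsUnit (MvPolynomial.coeff m Q) := by
    by_contra hcon
    push Not at hcon
    apply hQ0
    rw [hφ, MvPolynomial.aeval_def, MvPolynomial.eval₂_eq']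
    apply Finset.sum_eq_zero
    intro m _
    rw [hK _ (hcon m), zero_mul]
  obtain ⟨m, hm⟩ := hcoeff
  -- conclude
  have h0 := det_sq_smul_comm b ((1 : MvPolynomial (Fin n) R) ⊗ₜ[R] x)
    ((1 : MvPolynomial (Fin n) R) ⊗ₜ[R] y)
  rw [Algebra.TensorProduct.tmul_mul_tmul, Algebra.TensorProduct.tmul_mul_tmul, mul_one,
    ← TensorProduct.tmul_sub, TensorProduct.smul_tmul', smul_eq_mul, mul_one] at h0
  have h1 := congrArg ((TensorProduct.lid R E).toLinearMap ∘ₗ
    (LinearMap.rTensor E (MvPolynomial.lcoeff R m))) h0
  rw [map_zero, LinearMap.comp_apply, LinearMap.rTensor_tmul] at h1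
  have h2 : MvPolynomial.coeff m Q • (x * y - y * x) = 0 := h1
  have h3 := congrArg (fun z => (↑(hm.unit⁻¹) : R) • z) h2
  simp only [smul_smul, smul_zero] at h3
  rw [IsUnit.val_inv_mul, one_smul] at h3
  exact sub_eq_zero.mp h3

end Generic

end Groth.Agent.H9.OT
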