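import Mathlib
import Groth.Prelude.Def_CartDual2
import Groth.Agent.Lib.Helper9.OT.DualBC
import Groth.Agent.Lib.Helper9.OT.Generic
import Groth.Agent.Lib.Helper9.FinHopf.PrimeOrderMono

/-!
# Finite locally free group schemes of prime order are commutative (helper9)
-/

set_option autoImplicit false
set_option linter.unusedSectionVars false

universe u v w

open TensorProduct WithConv

namespace Groth.Agent.H9.OT

open CartDual Groth.Agent.H9.FinHopf

section

variable (R : Type u) [CommRing R] (A : Type v) [CommRing A] [HopfAlgebra R A]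
  [Module.Finite R A] [Module.Projective R A]

lemma finrank_baseChange_field' (p : ℕ) (hrk : ∀ q : PrimeSpectrum R, Module.rankAtStalk A q = p)
    (K : Type w) [Field K] [Algebra R K] :
    Module.finrank K (K ⊗[R] A) = p := by
  have h1 := Module.rankAtStalk_baseChange (R := R) (M := A) (S := K) ⟨⊥, Ideal.isPrime_bot⟩
  rw [hrk] at h1
  have h2 := congrFun (Module.rankAtStalk_eq_finrank_of_free (R := K) (M := K ⊗[R] A))
    ⟨⊥, Ideal.isPrime_bot⟩
  rw [h1] at h2
  exact h2.symm

lemma mul'_map_comm' (φ ψ : A →ₗ[R] R) (t : A ⊗[R] A) :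
    LinearMap.mul' R R (TensorProduct.map φ ψ (TensorProduct.comm R A A t)) =
      LinearMap.mul' R R (TensorProduct.map ψ φ t) := by
  induction t using TensorProduct.induction_on with
  | zero => simp
  | tmul a b =>
    rw [TensorProduct.comm_tmul, TensorProduct.map_tmul, TensorProduct.map_tmul,
      LinearMap.mul'_apply, LinearMap.mul'_apply, mul_comm]
  | add x y hx hy => simp only [map_add, hx, hy]

/-- if the dual algebra is commutative, the Hopf algebra is cocommutative -/
theorem isCocomm_of_dual_comm' (h : ∀ x y : D R A, x * y = y * x) : Coalgebra.IsCocomm R A := by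
  constructor
  apply LinearMap.ext
  intro a
  rw [LinearMap.comp_apply, ← sub_eq_zero]
  apply (Module.forall_dual_apply_eq_zero_iff R _).mp
  intro φ
  obtain ⟨y, rfl⟩ := (ev₂ R A).surjective φ
  induction y using TensorProduct.induction_on with
  | zero => rw [map_zero, LinearMap.zero_apply]
  | tmul ξ ζ =>
    rw [ev₂_tmul_eq', map_sub, LinearMap.comp_apply, LinearMap.comp_apply, LinearEquiv.coe_coe,
      mul'_map_comm', sub_eq_zero]
    have h1 := LinearMap.convMul_apply ζ ξ a
    have h2 := LinearMap.convMul_apply ξ ζ a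
    rw [← h1, ← h2, h]
  | add y y' hy hy' => rw [map_add, LinearMap.add_apply, hy, hy', add_zero]

end

section Local

variable (R : Type u) [CommRing R] [IsLocalRing R] (A : Type v) [CommRing A] [HopfAlgebra R A]
  [Module.Finite R A] [Module.Projective R A]

theorem dual_comm_of_isLocalRing (p : ℕ) [hp : Fact p.Prime]
    (hrk : ∀ q : PrimeSpectrum R, Module.rankAtStalk A q = p) (x y : D R A) :
    x * y = y * x := by
  let k := IsLocalRing.ResidueField R
  let K := AlgebraicClosure k
  have hK : ∀ r : R, ¬ IsUnit r → algebraMap R K r = 0 := by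
    intro r hr
    rw [IsScalarTower.algebraMap_apply R k K]
    have h1 : algebraMap R k r = 0 := by
      show IsLocalRing.residue R r = 0
      rw [IsLocalRing.residue_eq_zero_iff]
      exact (IsLocalRing.mem_maximalIdeal r).mpr hr
    rw [h1, map_zero]
  have hfr : Module.finrank K (K ⊗[R] A) = p := finrank_baseChange_field' R A p hrk K
  obtain ⟨δ, hδ⟩ := exists_span_pow_eq_top K (K ⊗[R] A) p hp.out hfr
  have : Module.Free R (D R A) := Module.free_of_flat_of_isLocalRing
  have hn : Module.finrank R (D R A) = p := by
    have h1 : Module.finrank K (K ⊗[R] D R A) = Module.finrank R (D R A) :=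
      Module.finrank_baseChange
    rw [← h1, (psiAlg R A K).toLinearEquiv.finrank_eq,
      (WithConv.linearEquiv K ((K ⊗[R] A) →ₗ[K] K)).finrank_eq, ← hfr]
    exact Subspace.dual_finrank_eq
  let b : Module.Basis (Fin p) R (D R A) := (Module.finBasis R (D R A)).reindex (finCongr hn)
  let η : K ⊗[R] D R A := (psiAlg R A K).symm δ
  have hη : Submodule.span K (Set.range fun j : Fin p => η ^ (j : ℕ)) = ⊤ := by
    have h1 : Submodule.map (psiAlg R A K).toLinearEquiv.toLinearMap
        (Submodule.span K (Set.range fun j : Fin p => η ^ (j : ℕ))) = ⊤ := by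
      rw [Submodule.map_span, ← Set.range_comp, ← hδ]
      congr 2
      funext j
      show (psiAlg R A K) (η ^ (j : ℕ)) = δ ^ (j : ℕ)
      rw [map_pow, AlgEquiv.apply_symm_apply]
    have h2 := congrArg (Submodule.comap (psiAlg R A K).toLinearEquiv.toLinearMap) h1
    rw [Submodule.comap_map_eq_of_injective (psiAlg R A K).toLinearEquiv.injective,
      Submodule.comap_top] at h2
    exact h2
  exact commutative_of_generic b K hK η hη x y

end Local

section Global

variable (R : Type u) [CommRing R] (A : Type v) [CommRing A] [HopfAlgebra R A]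
  [Module.Finite R A] [Module.Projective R A]

theorem dual_comm (p : ℕ) [hp : Fact p.Prime]
    (hrk : ∀ q : PrimeSpectrum R, Module.rankAtStalk A q = p) (x y : D R A) :
    x * y = y * x := by
  rw [← sub_eq_zero]
  apply WithConv.ext
  apply LinearMap.ext
  intro a
  show (x * y - y * x).ofConv a = 0
  apply eq_zero_of_localization
  intro J hJ
  have hrk' : ∀ q : PrimeSpectrum (Localization.AtPrime J),
      Module.rankAtStalk (Localization.AtPrime J ⊗[R] A) q = p := by
    intro q
    rw [Module.rankAtStalk_baseChange]
    exact hrk _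
  have h1 := psiLin_tmul_jmap R A (Localization.AtPrime J) 1 (x * y - y * x) a
  rw [one_mul] at h1
  rw [← h1]
  have h2 : ((1 : Localization.AtPrime J) ⊗ₜ[R] (x * y - y * x) : Localization.AtPrime J ⊗[R] D R A) =
      ((1 : Localization.AtPrime J) ⊗ₜ[R] x) * ((1 : Localization.AtPrime J) ⊗ₜ[R] y) -
      ((1 : Localization.AtPrime J) ⊗ₜ[R] y) * ((1 : Localization.AtPrime J) ⊗ₜ[R] x) := by
    rw [Algebra.TensorProduct.tmul_mul_tmul, Algebra.TensorProduct.tmul_mul_tmul, mul_one,
      TensorProduct.tmul_sub]
  rw [h2, map_sub, psiLin_mul, psiLin_mul,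
    dual_comm_of_isLocalRing (Localization.AtPrime J) (Localization.AtPrime J ⊗[R] A) p hrk'
      (psiLin R A (Localization.AtPrime J) ((1 : Localization.AtPrime J) ⊗ₜ[R] x)), sub_self]
  rfl

/-- **A finite locally free group scheme of prime order is commutative.** -/
theorem isCocomm_of_rankAtStalk_eq_prime (p : ℕ) [hp : Fact p.Prime]
    (hrk : ∀ q : PrimeSpectrum R, Module.rankAtStalk A q = p) : Coalgebra.IsCocomm R A :=
  isCocomm_of_dual_comm' R A (dual_comm R A p hrk)

end Global

end Groth.Agent.H9.OT
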