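import Mathlib
import Groth.Prelude.Def_CartDual2
import Groth.Agent.Lib.Helper9.OT.Eigen

/-!
# Oort–Tate: power maps on the Cartier dual (helper9)
-/

set_option autoImplicit false
set_option linter.unusedSectionVars false

universe u v

open TensorProduct WithConv

namespace Groth.Agent.H9.OT

open CartDual

section Transpose

variable (R : Type u) [CommRing R] (A : Type v) [CommRing A] [HopfAlgebra R A]
  [Module.Finite R A] [Module.Projective R A]

lemma mul'_map_transposeLin (f g : A →ₗ[R] A) (y : D R A ⊗[R] D R A) (a : A) :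
    (LinearMap.mul' R (D R A) (TensorProduct.map (transposeLin R f) (transposeLin R g) y)) a =
      ev₂ R A y (TensorProduct.map f g (CoalgebraStruct.comul (R := R) a)) := by
  induction y using TensorProduct.induction_on with
  | zero => simp
  | add y₁ y₂ h₁ h₂ =>
    rw [map_add, map_add, map_add]
    show (_ : D R A).ofConv a + (_ : D R A).ofConv a = _
    rw [LinearMap.add_apply]
    exact congrArg₂ (· + ·) h₁ h₂
  | tmul x z =>
    rw [TensorProduct.map_tmul, LinearMap.mul'_apply, ev₂_tmul_eq']
    show ((transposeLin R f x) * (transposeLin R g z)).ofConv a = _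
    rw [LinearMap.convMul_apply]
    generalize CoalgebraStruct.comul (R := R) a = t
    induction t using TensorProduct.induction_on with
    | zero => simp
    | tmul b c => rfl
    | add t t' ht ht' => simp only [map_add, ht, ht']

end Transpose

section Dual

variable (R : Type u) [CommRing R] (A : Type v) [CommRing A] [HopfAlgebra R A]
  [Coalgebra.IsCocomm R A] [Module.Finite R A] [Module.Projective R A]

lemma pw_dual (n : ℕ) (ξ : D R A) (a : A) :
    (pw R (D R A) n ξ).ofConv a = ξ.ofConv (pw R A n a) := by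
  induction n generalizing ξ a with
  | zero =>
    rw [pw_zero_apply, pw_zero_apply]
    show (algebraMap R (D R A) (ξ.ofConv 1)).ofConv a = _
    rw [Algebra.algebraMap_eq_smul_one, Algebra.algebraMap_eq_smul_one, map_smul]
    show (ξ.ofConv 1) • ((1 : D R A).ofConv a) = _
    rw [LinearMap.convOne_apply]
    simp [mul_comm]
  | succ n ih =>
    have h1 : (pw R (D R A) (n + 1)).toLinearMap =
        ((toConv (pw R (D R A) n).toLinearMap : WithConv (D R A →ₗ[R] D R A)) *
          toConv (pw R (D R A) 1).toLinearMap).ofConv := by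
      rw [pw_add]
      rfl
    have h2 : (pw R A (n + 1)).toLinearMap =
        ((toConv (pw R A n).toLinearMap : WithConv (A →ₗ[R] A)) *
          toConv (pw R A 1).toLinearMap).ofConv := by
      rw [pw_add]
      rfl
    have h3 : (pw R (D R A) n).toLinearMap = transposeLin R (pw R A n).toLinearMap := by
      apply LinearMap.ext
      intro η
      apply WithConv.ext
      apply LinearMap.ext
      intro b
      exact ih η b
    have h4 : (pw R (D R A) 1).toLinearMap = transposeLin R (pw R A 1).toLinearMap := by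
      rw [pw_one, pw_one]
      rfl
    have h5 : pw R (D R A) (n + 1) ξ = (pw R (D R A) (n + 1)).toLinearMap ξ := rfl
    have h6 : pw R A (n + 1) a = (pw R A (n + 1)).toLinearMap a := rfl
    rw [h5, h6, h1, h2, LinearMap.convMul_apply, LinearMap.convMul_apply]
    dsimp only
    rw [h3, h4, mul'_map_transposeLin, comul_def, ev₂_comul]
    rfl

lemma dual_killed (p : ℕ)
    (hp : (toConv (AlgHom.id R A) : WithConv (A →ₐ[R] A)) ^ p = 1) :
    (toConv (AlgHom.id R (D R A)) : WithConv (D R A →ₐ[R] D R A)) ^ p = 1 := by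
  apply WithConv.ofConv_injective
  apply AlgHom.ext
  intro ξ
  apply WithConv.ext
  apply LinearMap.ext
  intro a
  have h1 := pw_dual R A p ξ a
  have h2 : pw R A p a = pw R A 0 a := by
    show ((toConv (AlgHom.id R A) : WithConv (A →ₐ[R] A)) ^ p).ofConv a =
      ((toConv (AlgHom.id R A) : WithConv (A →ₐ[R] A)) ^ 0).ofConv a
    rw [hp, pow_zero]
  rw [h2, ← pw_dual R A 0 ξ a] at h1
  exact h1

end Dual

section DualU

variable {R : Type u} [CommRing R] {A : Type u} [CommRing A] [HopfAlgebra R A]
  [Coalgebra.IsCocomm R A] [Module.Finite R A] [Module.Projective R A]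

lemma proj_dual (p : ℕ) [Fact p.Prime] (u : R) (χ : (ZMod p)ˣ →* Rˣ) (i : ℕ) (ξ : D R A) (a : A) :
    (OortTate.proj R (D R A) p u χ i ξ).ofConv a = ξ.ofConv (OortTate.proj R A p u χ i a) := by
  rw [proj_apply, proj_apply, map_smul, map_sum]
  show u • (∑ m : (ZMod p)ˣ, ((χ m⁻¹ : Rˣ) : R) ^ i •
    pw R (D R A) (m : ZMod p).val ξ : D R A).ofConv a = _
  congr 1
  rw [WithConv.ofConv_sum, LinearMap.sum_apply]
  apply Finset.sum_congr rfl
  intro m _
  rw [map_smul]
  show ((χ m⁻¹ : Rˣ) : R) ^ i • (pw R (D R A) (m : ZMod p).val ξ).ofConv a = _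
  rw [pw_dual]

variable (p : ℕ) [Fact p.Prime] (u : R) (hu : u * ((p - 1 : ℕ) : R) = 1)
  (χ : (ZMod p)ˣ →* Rˣ) (hχ : ∀ m : (ZMod p)ˣ, m ≠ 1 → IsUnit ((χ m : R) - 1))
  (hp : (toConv (AlgHom.id R A) : WithConv (A →ₐ[R] A)) ^ p = 1)

include hp hu hχ in
theorem dual_eigen_bijective (i : ℕ) :
    Function.Bijective (fun f : OortTate.eigenAug R (CartDual.D R A) p χ i =>
      ((CartDual.toDual R A) (f : CartDual.D R A)).comp
        (OortTate.eigenAug R A p χ i).subtype) := by
  have hpD := dual_killed R A p hp
  constructor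
  · intro f g hfg
    apply Subtype.ext
    apply WithConv.ext
    apply LinearMap.ext
    intro a
    have hf := (mem_eigenAug_iff (D R A) p u χ hpD hu i (f : D R A)).mp f.2
    have hg := (mem_eigenAug_iff (D R A) p u χ hpD hu i (g : D R A)).mp g.2
    have hf1 : (f : D R A).ofConv 1 = 0 := hf.1
    have hg1 : (g : D R A).ofConv 1 = 0 := hg.1
    have key : ∀ (ξ : D R A), ξ.ofConv 1 = 0 → OortTate.proj R (D R A) p u χ i ξ = ξ →
        ξ.ofConv a = ξ.ofConv (augProj A p u χ i a) := by
      intro ξ h1 h2
      conv_lhs => rw [← h2]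
      rw [proj_dual, augProj_apply, map_sub, map_sub, pw_zero_apply, proj_algebraMap, map_smul,
        Algebra.algebraMap_eq_smul_one, map_smul, h1, smul_zero, smul_zero, sub_zero]
    rw [key _ hf1 hf.2, key _ hg1 hg.2]
    have h := LinearMap.congr_fun hfg ⟨_, augProj_mem A p u χ hp hu hχ i a⟩
    exact h
  · intro ψ
    let Q : A →ₗ[R] OortTate.eigenAug R A p χ i :=
      LinearMap.codRestrict _ (augProj A p u χ i) (augProj_mem A p u χ hp hu hχ i)
    have hQ : ∀ a, ((Q a : OortTate.eigenAug R A p χ i) : A) = augProj A p u χ i a := fun a => rfl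
    let ξ : D R A := (CartDual.toDual R A).symm (ψ.comp Q)
    have hξ : ∀ a, ξ.ofConv a = ψ (Q a) := fun a => rfl
    have hmem : ξ ∈ OortTate.eigenAug R (D R A) p χ i := by
      rw [mem_eigenAug_iff (D R A) p u χ hpD hu]
      constructor
      · show ξ.ofConv 1 = 0
        rw [hξ]
        have : Q 1 = 0 := by
          apply Subtype.ext
          rw [hQ, augProj_apply, pw_zero_apply, Bialgebra.counit_one, map_one, sub_self, map_zero]
          rfl
        rw [this, map_zero]
      · apply WithConv.ext
        apply LinearMap.ext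
        intro a
        rw [proj_dual, hξ, hξ]
        congr 1
        apply Subtype.ext
        rw [hQ, hQ, augProj_proj A p u χ hp hu hχ]
    refine ⟨⟨ξ, hmem⟩, ?_⟩
    apply LinearMap.ext
    intro a
    show ξ.ofConv (a : A) = ψ a
    rw [hξ]
    congr 1
    apply Subtype.ext
    rw [hQ, augProj_of_mem A p u χ hp hu i _ a.2]

end DualU

end Groth.Agent.H9.OT
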