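import Mathlib
import Groth.Prelude.Def_CartDual2
import Groth.Agent.Lib.Helper9.OT.DualBC

/-!
# The dual of a finite projective Hopf algebra has the same rank (helper9)
-/

set_option autoImplicit false
set_option linter.unusedSectionVars false

universe u v

open TensorProduct WithConv

namespace Groth.Agent.H9.OT

open CartDual

theorem rankAtStalk_dual (R : Type u) [CommRing R] (A : Type v) [CommRing A] [HopfAlgebra R A]
    [Module.Finite R A] [Module.Projective R A] (q : PrimeSpectrum R) :
    Module.rankAtStalk (D R A) q = Module.rankAtStalk A q := by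
  rw [Module.rankAtStalk_eq, Module.rankAtStalk_eq]
  show Module.finrank q.asIdeal.ResidueField (q.asIdeal.ResidueField ⊗[R] D R A) =
    Module.finrank q.asIdeal.ResidueField (q.asIdeal.ResidueField ⊗[R] A)
  rw [(psiAlg R A q.asIdeal.ResidueField).toLinearEquiv.finrank_eq,
    (WithConv.linearEquiv q.asIdeal.ResidueField
      ((q.asIdeal.ResidueField ⊗[R] A) →ₗ[q.asIdeal.ResidueField] q.asIdeal.ResidueField)).finrank_eq]
  exact Subspace.dual_finrank_eq

end Groth.Agent.H9.OT
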