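import Mathlib
import Groth.Agent.Lib.Helper9.OT.BaseChange

/-!
# Oort–Tate: the group algebra of `ℤ/p` (the Hopf algebra of `μ_p`) (helper9)
-/

set_option autoImplicit false
set_option linter.unusedSectionVars false

universe u v

open TensorProduct WithConv

namespace Groth.Agent.H9.OT

section Basic

variable (R : Type u) [CommRing R] (p : ℕ) [hpf : Fact p.Prime]

/-- the group algebra of `ℤ/p` -/
abbrev Bp : Type u := MonoidAlgebra R (Multiplicative (ZMod p))

lemma pw_of (n : ℕ) (g : Multiplicative (ZMod p)) :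
    pw R (Bp R p) n (MonoidAlgebra.of R _ g) = MonoidAlgebra.of R _ (g ^ n) := by
  induction n with
  | zero =>
    rw [pw_zero_apply, pow_zero, map_one]
    show algebraMap R (Bp R p) (CoalgebraStruct.counit (R := R) (MonoidAlgebra.single g (1 : R))) = 1
    rw [MonoidAlgebra.counit_single]
    simp [MonoidAlgebra.one_def]
  | succ n ih =>
    rw [pw_add, pw_one]
    show ((toConv (pw R (Bp R p) n) : WithConv (Bp R p →ₐ[R] Bp R p)) *
      toConv (AlgHom.id R (Bp R p))).ofConv (MonoidAlgebra.single g (1 : R)) = _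
    rw [MonoidAlgebra.convMul_algHom_single_one]
    show pw R (Bp R p) n (MonoidAlgebra.of R _ g) * MonoidAlgebra.of R _ g = _
    rw [ih, ← map_mul, ← pow_succ]

lemma killed_Bp : (toConv (AlgHom.id R (Bp R p)) : WithConv (Bp R p →ₐ[R] Bp R p)) ^ p = 1 := by
  apply WithConv.ofConv_injective
  apply (MonoidAlgebra.lift R (Bp R p) (Multiplicative (ZMod p))).symm.injective
  apply MonoidHom.ext
  intro g
  rw [MonoidAlgebra.lift_symm_apply, MonoidAlgebra.lift_symm_apply]
  show pw R (Bp R p) p (MonoidAlgebra.of R _ g) = pw R (Bp R p) 0 (MonoidAlgebra.of R _ g)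
  rw [pw_of, pw_of, pow_zero]
  congr 1
  apply Multiplicative.toAdd.injective
  rw [toAdd_pow, toAdd_one]
  simp

end Basic

section Gen

variable {R : Type u} [CommRing R] (p : ℕ) [hpf : Fact p.Prime] (u : R) (χ : (ZMod p)ˣ →* Rˣ)

/-- `T^g - 1` -/
noncomputable def tm (g : ZMod p) : Bp R p :=
  MonoidAlgebra.of R _ (Multiplicative.ofAdd g) - 1

lemma tm_zero : tm (R := R) p 0 = 0 := by
  unfold tm
  rw [ofAdd_zero, map_one, sub_self]

lemma counit_tm (g : ZMod p) : CoalgebraStruct.counit (R := R) (tm (R := R) p g) = 0 := by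
  unfold tm
  rw [map_sub, Bialgebra.counit_one]
  show CoalgebraStruct.counit (R := R) (MonoidAlgebra.single (Multiplicative.ofAdd g) (1 : R)) - 1
    = 0
  rw [MonoidAlgebra.counit_single]
  simp

lemma pw_tm_one (n : ℕ) : pw R (Bp R p) n (tm p 1) = tm p ((n : ℕ) : ZMod p) := by
  unfold tm
  have h1 : pw R (Bp R p) n 1 = 1 := map_one _
  rw [map_sub, pw_of, h1, ← ofAdd_nsmul, nsmul_eq_mul, mul_one]

lemma pw_muT_sub_one (m : (ZMod p)ˣ) :
    pw R (Bp R p) (m : ZMod p).val (OortTate.muT R p - 1) = tm p (m : ZMod p) := by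
  have h := pw_tm_one (R := R) p (m : ZMod p).val
  rw [ZMod.natCast_zmod_val] at h
  exact h

lemma ygen_eq (i : ℕ) :
    OortTate.ygen R p u χ i =
      u • ∑ m : (ZMod p)ˣ, ((χ m⁻¹ : Rˣ) : R) ^ i • tm (R := R) p (m : ZMod p) := by
  unfold OortTate.ygen
  rw [proj_apply]
  congr 1
  apply Finset.sum_congr rfl
  intro m _
  rw [pw_muT_sub_one]

variable (hu : u * ((p - 1 : ℕ) : R) = 1)
  (hχ : ∀ m : (ZMod p)ˣ, m ≠ 1 → IsUnit ((χ m : R) - 1))

include hu hχ in
lemma ygen_mem (i : ℕ) :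
    OortTate.ygen R p u χ i ∈ OortTate.eigenAug R (Bp R p) p χ i := by
  apply proj_mem_eigenAug (Bp R p) p u χ (killed_Bp R p) hu hχ i
  exact counit_tm p 1

/-- the coefficient of `T` -/
noncomputable def cfT : Bp R p →ₗ[R] R :=
  (Finsupp.lapply (Multiplicative.ofAdd (1 : ZMod p))).comp
    (MonoidAlgebra.coeffLinearEquiv R).toLinearMap

lemma cfT_tm (g : ZMod p) : cfT (R := R) p (tm p g) = if g = 1 then 1 else 0 := by
  classical
  have h10 : (1 : ZMod p) ≠ 0 := one_ne_zero
  unfold cfT tm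
  rw [map_sub]
  show (MonoidAlgebra.single (Multiplicative.ofAdd g) (1 : R)).coeff (Multiplicative.ofAdd 1) -
    (MonoidAlgebra.single (1 : Multiplicative (ZMod p)) (1 : R)).coeff (Multiplicative.ofAdd 1) = _
  rw [MonoidAlgebra.coeff_single, MonoidAlgebra.coeff_single, Finsupp.single_apply,
    Finsupp.single_apply]
  have h2 : ¬ ((1 : Multiplicative (ZMod p)) = Multiplicative.ofAdd (1 : ZMod p)) := by
    intro h
    apply h10
    have := congrArg Multiplicative.toAdd h
    simpa using this.symm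
  rw [if_neg h2, sub_zero]
  by_cases hg : g = 1
  · rw [if_pos hg, if_pos (by rw [hg])]
  · rw [if_neg hg, if_neg]
    intro h
    exact hg (Multiplicative.ofAdd.injective h)

lemma cfT_ygen (i : ℕ) : cfT (R := R) p (OortTate.ygen R p u χ i) = u := by
  classical
  rw [ygen_eq, map_smul, map_sum]
  have h1 : ∀ m : (ZMod p)ˣ, cfT (R := R) p (((χ m⁻¹ : Rˣ) : R) ^ i • tm (R := R) p (m : ZMod p)) =
      if m = 1 then 1 else 0 := by
    intro m
    rw [map_smul, cfT_tm]
    by_cases hm : m = 1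
    · subst hm
      simp
    · rw [if_neg hm, if_neg, smul_zero]
      intro h
      apply hm
      exact Units.ext h
  rw [Finset.sum_congr rfl (fun m _ => h1 m), Finset.sum_ite_eq' Finset.univ (1 : (ZMod p)ˣ)]
  simp

include hu in
lemma eq_zero_of_smul_ygen (i : ℕ) (r : R) (h : r • OortTate.ygen R p u χ i = 0) : r = 0 := by
  have h1 := congrArg (cfT (R := R) p) h
  rw [map_smul, cfT_ygen, map_zero, smul_eq_mul] at h1
  calc r = r * (u * ((p - 1 : ℕ) : R)) := by rw [hu, mul_one]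
    _ = (r * u) * ((p - 1 : ℕ) : R) := by ring
    _ = 0 := by rw [h1, zero_mul]

lemma ker_counit_le_span_tm :
    LinearMap.ker (Bialgebra.counitAlgHom R (Bp R p)).toLinearMap ≤
      Submodule.span R (Set.range (tm (R := R) p)) := by
  intro b hb
  have hb0 : CoalgebraStruct.counit (R := R) b = 0 := hb
  let L : Bp R p →ₗ[R] Bp R p :=
    LinearMap.id - (Algebra.linearMap R (Bp R p)).comp (Bialgebra.counitAlgHom R (Bp R p)).toLinearMap
  have hL : ∀ x, L x = x - algebraMap R (Bp R p) (CoalgebraStruct.counit (R := R) x) := fun x => rfl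
  have hLb : L b = b := by rw [hL, hb0, map_zero, sub_zero]
  have htop : b ∈ Submodule.span R (Set.range (MonoidAlgebra.basis (Multiplicative (ZMod p)) R)) := by
    rw [(MonoidAlgebra.basis (Multiplicative (ZMod p)) R).span_eq]
    trivial
  rw [← hLb]
  have h2 := Submodule.mem_map_of_mem (f := L) htop
  rw [Submodule.map_span] at h2
  refine Submodule.span_mono ?_ h2
  rintro _ ⟨_, ⟨g, rfl⟩, rfl⟩
  refine ⟨Multiplicative.toAdd g, ?_⟩
  rw [hL, MonoidAlgebra.basis_apply, MonoidAlgebra.counit_single]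
  unfold tm
  simp
  rfl

include hu hχ in
theorem span_ygen_eq (i : ℕ) :
    Submodule.span R {OortTate.ygen R p u χ i} = OortTate.eigenAug R (Bp R p) p χ i := by
  apply le_antisymm
  · rw [Submodule.span_singleton_le_iff_mem]
    exact ygen_mem p u χ hu hχ i
  · rw [eigenAug_eq_map_proj (Bp R p) p u χ (killed_Bp R p) hu hχ i]
    refine le_trans (Submodule.map_mono (ker_counit_le_span_tm p)) ?_
    rw [Submodule.map_span, Submodule.span_le]
    rintro _ ⟨_, ⟨g, rfl⟩, rfl⟩
    by_cases hg : g = 0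
    · rw [hg, tm_zero, map_zero]
      exact Submodule.zero_mem _
    · have hm : ((Units.mk0 g hg : (ZMod p)ˣ) : ZMod p) = g := rfl
      rw [← hm, ← pw_muT_sub_one, proj_pw]
      show pw R (Bp R p) _ (OortTate.ygen R p u χ i) ∈ _
      have h1 := pw_proj (Bp R p) p u χ (killed_Bp R p) (Units.mk0 g hg) i (OortTate.muT R p - 1)
      rw [h1]
      exact Submodule.smul_mem _ _ (Submodule.mem_span_singleton_self _)

end Gen

section FieldMu

variable {K : Type u} [Field K] [IsAlgClosed K] (p : ℕ) [hpf : Fact p.Prime] (u : K)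
  (χ : (ZMod p)ˣ →* Kˣ) (hu : u * ((p - 1 : ℕ) : K) = 1)
  (hχ : ∀ m : (ZMod p)ˣ, m ≠ 1 → IsUnit ((χ m : K) - 1))
  (hχp : ∀ m : (ZMod p)ˣ, ((χ m : Kˣ) : K) - (((m : ZMod p).val : ℕ) : K) ∈
    Ideal.span ({(p : K)} : Set K))

instance : Module.Finite K (Bp K p) :=
  Module.Finite.of_basis (MonoidAlgebra.basis (Multiplicative (ZMod p)) K)

lemma finrank_Bp : Module.finrank K (Bp K p) = p := by
  rw [Module.finrank_eq_card_basis (MonoidAlgebra.basis (Multiplicative (ZMod p)) K)]
  rw [Fintype.card_multiplicative]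
  exact ZMod.card p

include hu hχ hχp in
lemma ygen_pow_ne_zero (t : ℕ) (ht1 : 1 ≤ t) (ht2 : t ≤ p - 1) :
    OortTate.ygen K p u χ 1 ^ t ≠ 0 := by
  intro h0
  obtain ⟨h1, h2⟩ := field_case (A := Bp K p) p u χ hu hχ hχp (finrank_Bp p)
  have h3 := h2 t ht1 ht2
  rw [← span_ygen_eq p u χ hu hχ 1, Submodule.span_pow, Set.singleton_pow, h0] at h3
  have h4 := h1 t
  rw [← h3, Submodule.span_zero_singleton, finrank_bot] at h4
  exact zero_ne_one h4

end FieldMu

section Main

variable {R : Type u} [CommRing R] (p : ℕ) [hpf : Fact p.Prime] (u : R) (χ : (ZMod p)ˣ →* Rˣ)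
  (hu : u * ((p - 1 : ℕ) : R) = 1)
  (hχ : ∀ m : (ZMod p)ˣ, m ≠ 1 → IsUnit ((χ m : R) - 1))
  (hχp : ∀ m : (ZMod p)ˣ, ((χ m : Rˣ) : R) - (((m : ZMod p).val : ℕ) : R) ∈
    Ideal.span ({(p : R)} : Set R))

/-- base change of group algebras -/
noncomputable abbrev bcMu (S : Type u) [CommRing S] [Algebra R S] : Bp R p →+* Bp S p :=
  MonoidAlgebra.mapRingHom (Multiplicative (ZMod p)) (algebraMap R S)

lemma bcMu_tm (S : Type u) [CommRing S] [Algebra R S] (g : ZMod p) :
    bcMu p S (tm (R := R) p g) = tm (R := S) p g := by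
  unfold tm
  rw [map_sub, map_one]
  show MonoidAlgebra.mapRingHom _ (algebraMap R S) (MonoidAlgebra.single _ (1 : R)) - 1 = _
  rw [MonoidAlgebra.mapRingHom_single, map_one]
  rfl

lemma bcMu_smul (S : Type u) [CommRing S] [Algebra R S] (r : R) (x : Bp R p) :
    bcMu p S (r • x) = algebraMap R S r • bcMu p S x := by
  apply MonoidAlgebra.coeff_injective
  ext g
  rw [MonoidAlgebra.coeff_mapRingHom, MonoidAlgebra.coeff_smul, MonoidAlgebra.coeff_smul,
    Finsupp.smul_apply, Finsupp.smul_apply, MonoidAlgebra.coeff_mapRingHom, smul_eq_mul,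
    smul_eq_mul, map_mul]

lemma bcMu_ygen (S : Type u) [CommRing S] [Algebra R S] (i : ℕ) :
    bcMu p S (OortTate.ygen R p u χ i) = OortTate.ygen S p (algebraMap R S u) (chiS S p χ) i := by
  rw [ygen_eq, ygen_eq, bcMu_smul, map_sum]
  congr 1
  apply Finset.sum_congr rfl
  intro m _
  rw [bcMu_smul, bcMu_tm, chiS_apply, map_pow]

include hu hχ in
lemma exists_pow_eq_smul (t : ℕ) (ht : 1 ≤ t) :
    ∃ w : R, OortTate.ygen R p u χ 1 ^ t = w • OortTate.ygen R p u χ t := by
  have h1 := pow_mem_eigenAug (ygen_mem p u χ hu hχ 1) t ht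
  rw [← span_ygen_eq p u χ hu hχ t, Submodule.mem_span_singleton] at h1
  obtain ⟨w, hw⟩ := h1
  exact ⟨w, hw.symm⟩

include hu hχ hχp in
lemma isUnit_of_pow_eq_smul (t : ℕ) (ht1 : 1 ≤ t) (ht2 : t ≤ p - 1) (w : R)
    (hw : OortTate.ygen R p u χ 1 ^ t = w • OortTate.ygen R p u χ t) : IsUnit w := by
  by_contra hnu
  obtain ⟨𝔪, hmax, hwm⟩ := exists_max_ideal_of_mem_nonunits (show w ∈ nonunits R from hnu)
  let K := AlgebraicClosure 𝔪.ResidueField
  have hw0 : algebraMap R K w = 0 := by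
    rw [IsScalarTower.algebraMap_apply R 𝔪.ResidueField K,
      (Ideal.algebraMap_residueField_eq_zero).mpr hwm, map_zero]
  have h1 := congrArg (bcMu p K) hw
  rw [map_pow, bcMu_smul, hw0, zero_smul, bcMu_ygen] at h1
  exact ygen_pow_ne_zero p (algebraMap R K u) (chiS K p χ) (hu_baseChange K p u hu)
    (hχ_baseChange K p χ hχ) (hχp_baseChange K p χ hχp) t ht1 ht2 h1

lemma ygen_mod (i : ℕ) : OortTate.ygen R p u χ i = OortTate.ygen R p u χ (i % (p - 1)) := by
  unfold OortTate.ygen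
  rw [proj_mod (Bp R p) p u χ (killed_Bp R p) i]

include hu hχ in
theorem linearIndependent_ygen :
    LinearIndependent R (fun i : Fin (p - 1) => OortTate.ygen R p u χ (i : ℕ)) := by
  rw [Fintype.linearIndependent_iff]
  intro c hc j
  have h1 := congrArg (OortTate.proj R (Bp R p) p u χ (j : ℕ)) hc
  rw [map_sum, map_zero] at h1
  have h2 : ∀ i : Fin (p - 1), OortTate.proj R (Bp R p) p u χ (j : ℕ)
      (c i • OortTate.ygen R p u χ (i : ℕ)) =
      if i = j then c j • OortTate.ygen R p u χ (j : ℕ) else 0 := by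
    intro i
    rw [map_smul]
    by_cases hij : i = j
    · subst hij
      rw [if_pos rfl]
      congr 1
      exact ((mem_eigenAug_iff (Bp R p) p u χ (killed_Bp R p) hu (i : ℕ) _).mp
        (ygen_mem p u χ hu hχ i)).2
    · rw [if_neg hij]
      have h3 := ((mem_eigenAug_iff (Bp R p) p u χ (killed_Bp R p) hu (i : ℕ) _).mp
        (ygen_mem p u χ hu hχ i)).2
      rw [← h3, proj_ortho (Bp R p) p u χ (killed_Bp R p) hu hχ j i (Ne.symm hij), smul_zero]
  rw [Finset.sum_congr rfl (fun i _ => h2 i), Finset.sum_ite_eq' Finset.univ j] at h1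
  simp only [Finset.mem_univ, if_true] at h1
  exact eq_zero_of_smul_ygen p u χ hu (j : ℕ) (c j) h1

include hu hχ in
theorem span_range_ygen :
    Submodule.span R (Set.range (fun i : Fin (p - 1) => OortTate.ygen R p u χ (i : ℕ))) =
      LinearMap.ker (Bialgebra.counitAlgHom R (Bp R p)).toLinearMap := by
  rw [← iSup_eigenAug (Bp R p) p u χ (killed_Bp R p) hu hχ, Submodule.span_range_eq_iSup]
  apply iSup_congr
  intro i
  exact span_ygen_eq p u χ hu hχ (i : ℕ)

include hu hχ hχp in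
theorem adjoin_ygen_eq_top :
    Algebra.adjoin R ({OortTate.ygen R p u χ 1} : Set (Bp R p)) = ⊤ := by
  have hp1 : 1 ≤ p - 1 := Nat.sub_pos_of_lt hpf.out.one_lt
  have hmem : ∀ t, 1 ≤ t → t ≤ p - 1 →
      OortTate.ygen R p u χ t ∈ Algebra.adjoin R ({OortTate.ygen R p u χ 1} : Set (Bp R p)) := by
    intro t ht1 ht2
    obtain ⟨w, hw⟩ := exists_pow_eq_smul p u χ hu hχ t ht1
    obtain ⟨v, hv⟩ := isUnit_of_pow_eq_smul p u χ hu hχ hχp t ht1 ht2 w hw
    have h1 : OortTate.ygen R p u χ t = ((v⁻¹ : Rˣ) : R) • OortTate.ygen R p u χ 1 ^ t := by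
      rw [hw, ← hv, smul_smul, Units.inv_mul, one_smul]
    rw [h1]
    apply Subalgebra.smul_mem
    apply Subalgebra.pow_mem
    exact Algebra.subset_adjoin (Set.mem_singleton _)
  have hmem' : ∀ i : Fin (p - 1),
      OortTate.ygen R p u χ (i : ℕ) ∈
        Algebra.adjoin R ({OortTate.ygen R p u χ 1} : Set (Bp R p)) := by
    intro i
    by_cases hi : (i : ℕ) = 0
    · have h1 := ygen_mod p u χ (p - 1)
      rw [Nat.mod_self] at h1
      rw [hi, ← h1]
      exact hmem (p - 1) hp1 le_rfl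
    · exact hmem i (Nat.one_le_iff_ne_zero.mpr hi) (le_of_lt i.2)
  rw [eq_top_iff]
  intro b _
  have hb : b - algebraMap R (Bp R p) (CoalgebraStruct.counit (R := R) b) ∈
      LinearMap.ker (Bialgebra.counitAlgHom R (Bp R p)).toLinearMap := by
    rw [LinearMap.mem_ker]
    simp
  rw [← span_range_ygen p u χ hu hχ] at hb
  have h2 : Submodule.span R (Set.range (fun i : Fin (p - 1) => OortTate.ygen R p u χ (i : ℕ))) ≤
      Subalgebra.toSubmodule (Algebra.adjoin R ({OortTate.ygen R p u χ 1} : Set (Bp R p))) := by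
    rw [Submodule.span_le]
    rintro _ ⟨i, rfl⟩
    exact hmem' i
  have h3 := h2 hb
  have h4 : b = (b - algebraMap R (Bp R p) (CoalgebraStruct.counit (R := R) b)) +
      algebraMap R (Bp R p) (CoalgebraStruct.counit (R := R) b) := by abel
  rw [h4]
  exact Subalgebra.add_mem _ h3 (Subalgebra.algebraMap_mem _ _)

include hu hχ in
theorem existsUnique_pow_p :
    ∃! w : R, OortTate.ygen R p u χ 1 ^ p = w • OortTate.ygen R p u χ 1 := by
  have hp1 : 1 ≤ p - 1 := Nat.sub_pos_of_lt hpf.out.one_lt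
  obtain ⟨w, hw⟩ := exists_pow_eq_smul p u χ hu hχ p hpf.out.one_le
  have hmod : OortTate.ygen R p u χ p = OortTate.ygen R p u χ 1 := by
    rw [ygen_mod p u χ p, ygen_mod p u χ 1]
    congr 1
    have h1 : p % (p - 1) = (1 + (p - 1)) % (p - 1) := by
      congr 1
      omega
    rw [h1, Nat.add_mod_right]
  rw [hmod] at hw
  refine ⟨w, hw, ?_⟩
  intro w' hw'
  have h1 : (w' - w) • OortTate.ygen R p u χ 1 = 0 := by
    rw [sub_smul, ← hw, ← hw', sub_self]
  exact sub_eq_zero.mp (eq_zero_of_smul_ygen p u χ hu 1 _ h1)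

end Main

end Groth.Agent.H9.OT
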