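import Mathlib

/-!
# Finitely generated projective modules of rank one (helper9)
-/

set_option autoImplicit false
set_option linter.unusedSectionVars false

universe u v

open TensorProduct

namespace Groth.Agent.H9.OT

section RankOne

variable {R : Type u} [CommRing R] {L : Type v} [AddCommGroup L] [Module R L]
  [Module.Finite R L] [Module.Projective R L]

/-- locally a rank one projective module has a free generator -/
lemma exists_local_gen (P : Ideal R) [hP : P.IsMaximal]
    (hrk : Module.rankAtStalk L ⟨P, hP.isPrime⟩ = 1) :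
    ∃ e : Localization.AtPrime P ⊗[R] L,
      (∀ v, ∃ c : Localization.AtPrime P, v = c • e) ∧
        (∀ c : Localization.AtPrime P, c • e = 0 → c = 0) := by
  let K := Localization.AtPrime P
  have hfp : Module.FinitePresentation K (K ⊗[R] L) := Module.finitePresentation_of_projective _ _
  have hfree : Module.Free K (K ⊗[R] L) := Module.free_of_flat_of_isLocalRing
  have h2 : Module.finrank K (K ⊗[R] L) = 1 := by
    rw [← hrk]
    exact (Module.rankAtStalk_eq_finrank_tensorProduct ⟨P, hP.isPrime⟩).symm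
  let b : Module.Basis Unit K (K ⊗[R] L) := Module.basisUnique Unit h2
  refine ⟨b (), ?_, ?_⟩
  · intro v
    refine ⟨b.repr v (), ?_⟩
    conv_lhs => rw [← b.sum_repr v]
    simp
  · intro c hc
    have := congrArg (fun w => b.repr w ()) hc
    simpa using this

/-- in a rank one projective module, `ξ x • a = ξ a • x` -/
theorem smul_comm_of_rankOne (hrk : ∀ q : PrimeSpectrum R, Module.rankAtStalk L q = 1)
    (ξ : L →ₗ[R] R) (a x : L) : ξ x • a = ξ a • x := by
  apply Module.eq_of_localization_maximal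
    (fun (P : Ideal R) [P.IsMaximal] => Localization.AtPrime P ⊗[R] L)
    (fun (P : Ideal R) [P.IsMaximal] => TensorProduct.mk R (Localization.AtPrime P) L 1)
  intro P hP
  let K := Localization.AtPrime P
  obtain ⟨e, he1, -⟩ := exists_local_gen (L := L) P (hrk ⟨P, hP.isPrime⟩)
  let ℓ : K ⊗[R] L →ₗ[K] K :=
    (Algebra.TensorProduct.rid R K K).toLinearMap.comp (ξ.baseChange K)
  have hℓ : ∀ y : L, ℓ ((1 : K) ⊗ₜ[R] y) = algebraMap R K (ξ y) := by
    intro y
    show Algebra.TensorProduct.rid R K K (ξ.baseChange K ((1 : K) ⊗ₜ[R] y)) = _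
    rw [LinearMap.baseChange_tmul, Algebra.TensorProduct.rid_tmul, Algebra.algebraMap_eq_smul_one]
  have hsm : ∀ (r : R) (y : L), (1 : K) ⊗ₜ[R] (r • y) = algebraMap R K r • ((1 : K) ⊗ₜ[R] y) := by
    intro r y
    rw [TensorProduct.tmul_smul, algebraMap_smul]
  show (1 : K) ⊗ₜ[R] (ξ x • a) = (1 : K) ⊗ₜ[R] (ξ a • x)
  rw [hsm, hsm, ← hℓ, ← hℓ]
  obtain ⟨s, hs⟩ := he1 ((1 : K) ⊗ₜ[R] x)
  obtain ⟨t, ht⟩ := he1 ((1 : K) ⊗ₜ[R] a)
  rw [hs, ht, map_smul, map_smul, smul_smul, smul_smul, smul_eq_mul, smul_eq_mul]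
  congr 1
  ring

/-- a rank one projective module is faithful -/
theorem eq_zero_of_smul_rankOne (hrk : ∀ q : PrimeSpectrum R, Module.rankAtStalk L q = 1)
    (r : R) (h : ∀ x : L, r • x = 0) : r = 0 := by
  apply eq_zero_of_localization
  intro P hP
  let K := Localization.AtPrime P
  obtain ⟨e, he1, he2⟩ := exists_local_gen (L := L) P (hrk ⟨P, hP.isPrime⟩)
  apply he2
  have hall : ∀ v : K ⊗[R] L, algebraMap R K r • v = 0 := by
    intro v
    induction v using TensorProduct.induction_on with
    | zero => rw [smul_zero]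
    | tmul c y => rw [algebraMap_smul, ← TensorProduct.tmul_smul, h y, TensorProduct.tmul_zero]
    | add v w hv hw => rw [smul_add, hv, hw, add_zero]
  exact hall e

end RankOne

end Groth.Agent.H9.OT
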