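import Mathlib
import Groth.Agent.Lib.Helper9.OT.MuP
import Groth.Agent.Lib.Helper9.OT.DualPow
import Groth.Agent.Lib.Helper9.FinHopf.Deligne
import Groth.Agent.Lib.Helper9.OT.RankOne

/-!
# Oort–Tate: the Cartier pairing and the canonical element (helper9)
-/

set_option autoImplicit false
set_option linter.unusedSectionVars false

universe u v

open TensorProduct WithConv

namespace Groth.Agent.H9.OT

open CartDual

section Theta

variable (R : Type u) [CommRing R] (A : Type v) [CommRing A] [HopfAlgebra R A]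
  [Coalgebra.IsCocomm R A] [Module.Finite R A] [Module.Projective R A]

instance instRightDistribClassAD : RightDistribClass (A ⊗[R] D R A) := by
  let _ : Semiring (A ⊗[R] D R A) := inferInstance
  infer_instance

instance instLeftDistribClassAD : LeftDistribClass (A ⊗[R] D R A) := by
  let _ : Semiring (A ⊗[R] D R A) := inferInstance
  infer_instance

noncomputable instance instMulZeroClassAD : MulZeroClass (A ⊗[R] D R A) := by
  let _ : Semiring (A ⊗[R] D R A) := inferInstance
  infer_instance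

/-- `A ⊗ A^D ≃ End_R A`, `a ⊗ ξ ↦ (x ↦ ξ x • a)` -/
noncomputable def thetaLin : A ⊗[R] D R A ≃ₗ[R] (A →ₗ[R] A) :=
  (TensorProduct.comm R A (D R A)) ≪≫ₗ
    (TensorProduct.congr (toDual R A) (LinearEquiv.refl R A)) ≪≫ₗ dualTensorHomEquiv R A A

lemma thetaLin_tmul (a : A) (ξ : D R A) (x : A) :
    thetaLin R A (a ⊗ₜ[R] ξ) x = ξ.ofConv x • a := by
  unfold thetaLin
  simp [dualTensorHom_apply]

lemma thetaLin_one : thetaLin R A 1 = (1 : WithConv (A →ₗ[R] A)).ofConv := by
  apply LinearMap.ext
  intro x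
  rw [Algebra.TensorProduct.one_def, thetaLin_tmul]
  show (1 : D R A).ofConv x • (1 : A) = (1 : WithConv (A →ₗ[R] A)).ofConv x
  rw [LinearMap.convOne_apply, LinearMap.convOne_apply, Algebra.algebraMap_eq_smul_one,
    Algebra.algebraMap_eq_smul_one, smul_assoc, one_smul]

lemma thetaLin_mul (z z' : A ⊗[R] D R A) :
    thetaLin R A (z * z') =
      ((toConv (thetaLin R A z) : WithConv (A →ₗ[R] A)) * toConv (thetaLin R A z')).ofConv := by
  induction z using TensorProduct.induction_on with
  | zero => rw [zero_mul, map_zero, toConv_zero, zero_mul, ofConv_zero]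
  | add z₁ z₂ h₁ h₂ => rw [add_mul, map_add, h₁, h₂, map_add, toConv_add, add_mul, ofConv_add]
  | tmul a ξ =>
    induction z' using TensorProduct.induction_on with
    | zero => rw [mul_zero, map_zero, toConv_zero, mul_zero, ofConv_zero]
    | add z₁ z₂ h₁ h₂ => rw [mul_add, map_add, h₁, h₂, map_add, toConv_add, mul_add, ofConv_add]
    | tmul a' ξ' =>
      apply LinearMap.ext
      intro x
      rw [Algebra.TensorProduct.tmul_mul_tmul, thetaLin_tmul, LinearMap.convMul_apply,
        LinearMap.convMul_apply]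
      dsimp only
      generalize CoalgebraStruct.comul (R := R) x = t
      induction t using TensorProduct.induction_on with
      | zero => simp
      | tmul b c =>
        rw [TensorProduct.map_tmul, TensorProduct.map_tmul, LinearMap.mul'_apply,
          LinearMap.mul'_apply, thetaLin_tmul, thetaLin_tmul, smul_mul_smul_comm]
      | add t t' ht ht' => simp only [map_add, add_smul, ht, ht']

/-- `Θ` as an algebra isomorphism onto the convolution algebra of `End_R A` -/
noncomputable def thetaAlg : A ⊗[R] D R A →ₐ[R] WithConv (A →ₗ[R] A) :=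
  AlgHom.ofLinearMap
    ((WithConv.linearEquiv R (A →ₗ[R] A)).symm.toLinearMap ∘ₗ (thetaLin R A).toLinearMap)
    (by
      apply WithConv.ofConv_injective
      exact thetaLin_one R A)
    (by
      intro z z'
      apply WithConv.ofConv_injective
      exact thetaLin_mul R A z z')

lemma thetaAlg_apply (z : A ⊗[R] D R A) : (thetaAlg R A z).ofConv = thetaLin R A z := rfl

lemma thetaAlg_injective : Function.Injective (thetaAlg R A) := by
  intro z z' h
  apply (thetaLin R A).injective
  rw [← thetaAlg_apply, ← thetaAlg_apply, h]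

end Theta

section Abstract

variable {R : Type u} [CommRing R] {A : Type u} [CommRing A] [HopfAlgebra R A]
  {E : Type v} [Ring E] [Algebra R E] (Θ : E →ₐ[R] WithConv (A →ₗ[R] A)) (δ : E)
  (hΘδ : (Θ δ).ofConv = LinearMap.id)

include hΘδ in
lemma theta_delta_pow (n : ℕ) : Θ (δ ^ n) = toConv (pw R A n).toLinearMap := by
  rw [map_pow]
  have h1 : Θ δ = toConv (toConv (AlgHom.id R A) : WithConv (A →ₐ[R] A)).ofConv.toLinearMap := by
    apply WithConv.ofConv_injective
    rw [hΘδ]
    rfl
  rw [h1, ← AlgHom.toLinearMap_convPow]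

variable (p : ℕ) [hpf : Fact p.Prime]
  (ϕ : MonoidAlgebra R (Multiplicative (ZMod p)) →ₐ[R] E)
  (hϕ : ϕ (OortTate.muT R p) = δ)

lemma of_ofAdd_eq_muT_pow (n : ℕ) :
    MonoidAlgebra.of R (Multiplicative (ZMod p)) (Multiplicative.ofAdd ((n : ℕ) : ZMod p)) =
      OortTate.muT R p ^ n := by
  unfold OortTate.muT
  rw [← map_pow, ← ofAdd_nsmul, nsmul_eq_mul, mul_one]

include hΘδ hϕ in
lemma theta_phi_tm (m : (ZMod p)ˣ) :
    (Θ (ϕ (tm (R := R) p (m : ZMod p)))).ofConv =
      (pw R A (m : ZMod p).val).toLinearMap - (pw R A 0).toLinearMap := by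
  unfold tm
  have h0 := of_ofAdd_eq_muT_pow (R := R) p (m : ZMod p).val
  rw [ZMod.natCast_zmod_val] at h0
  rw [h0, map_sub, map_pow, hϕ, map_one, map_sub, theta_delta_pow Θ δ hΘδ, map_one]
  rfl

variable (u : R) (χ : (ZMod p)ˣ →* Rˣ)

include hΘδ hϕ in
theorem theta_phi_ygen (i : ℕ) :
    (Θ (ϕ (OortTate.ygen R p u χ i))).ofConv = augProj A p u χ i := by
  rw [ygen_eq, map_smul, map_sum, map_smul, map_sum]
  apply LinearMap.ext
  intro a
  rw [augProj_apply, proj_apply]
  show u • (∑ m : (ZMod p)ˣ, Θ (ϕ (((χ m⁻¹ : Rˣ) : R) ^ i • tm (R := R) p (m : ZMod p)))).ofConv a = _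
  rw [WithConv.ofConv_sum, LinearMap.sum_apply]
  congr 1
  apply Finset.sum_congr rfl
  intro m _
  rw [map_smul, map_smul]
  show ((χ m⁻¹ : Rˣ) : R) ^ i • (Θ (ϕ (tm (R := R) p (m : ZMod p)))).ofConv a = _
  rw [theta_phi_tm Θ δ hΘδ p ϕ hϕ, LinearMap.sub_apply, map_sub]
  congr 2
  show pw R A 0 a = pw R A (m : ZMod p).val (pw R A 0 a)
  rw [pw_pw, mul_zero]

end Abstract

section Canon

variable {R : Type u} [CommRing R] {A : Type u} [CommRing A] [HopfAlgebra R A]
  [Coalgebra.IsCocomm R A] [Module.Finite R A] [Module.Projective R A]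

lemma thetaLin_eval (z : A ⊗[R] D R A) (a : A) :
    thetaLin R A z a = TensorProduct.rid R A
      (LinearMap.lTensor A ((Module.Dual.eval R A a) ∘ₗ (toDual R A).toLinearMap) z) := by
  induction z using TensorProduct.induction_on with
  | zero => simp
  | tmul b ξ =>
    rw [thetaLin_tmul, LinearMap.lTensor_tmul, TensorProduct.rid_tmul]
    rfl
  | add z z' hz hz' => simp only [map_add, LinearMap.add_apply, hz, hz']

variable (δ : A ⊗[R] D R A)
  (hδ : ∀ a : A, TensorProduct.rid R A
    (LinearMap.lTensor A ((Module.Dual.eval R A a) ∘ₗ (toDual R A).toLinearMap) δ) = a)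

include hδ in
lemma thetaLin_delta : thetaLin R A δ = LinearMap.id := by
  apply LinearMap.ext
  intro a
  rw [thetaLin_eval, hδ]
  rfl

variable (p : ℕ) [hpf : Fact p.Prime] (u : R) (χ : (ZMod p)ˣ →* Rˣ)

lemma augProj_dual (i : ℕ) (ξ : D R A) (a : A) :
    (augProj (D R A) p u χ i ξ).ofConv a = ξ.ofConv (augProj A p u χ i a) := by
  rw [augProj_apply, augProj_apply, proj_dual, map_sub, map_sub]
  show ξ.ofConv (OortTate.proj R A p u χ i a) -
    (pw R (D R A) 0 ξ).ofConv (OortTate.proj R A p u χ i a) = _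
  rw [pw_dual, proj_pw]

lemma thetaLin_map_augProj (i : ℕ) (z : A ⊗[R] D R A) :
    thetaLin R A (TensorProduct.map (augProj A p u χ i) (augProj (D R A) p u χ i) z) =
      (augProj A p u χ i).comp ((thetaLin R A z).comp (augProj A p u χ i)) := by
  induction z using TensorProduct.induction_on with
  | zero => simp
  | tmul b ξ =>
    apply LinearMap.ext
    intro x
    rw [TensorProduct.map_tmul, thetaLin_tmul, LinearMap.comp_apply, LinearMap.comp_apply,
      thetaLin_tmul, map_smul, augProj_dual]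
  | add z z' hz hz' =>
    rw [map_add, map_add, hz, hz', map_add, LinearMap.add_comp, LinearMap.comp_add]

end Canon

section Main

variable {R : Type u} [CommRing R] {A : Type u} [CommRing A] [HopfAlgebra R A]
  [Coalgebra.IsCocomm R A] [Module.Finite R A] [Module.Projective R A]
  (p : ℕ) [hpf : Fact p.Prime] (u : R) (χ : (ZMod p)ˣ →* Rˣ)
  (hp : (toConv (AlgHom.id R A) : WithConv (A →ₐ[R] A)) ^ p = 1)
  (hu : u * ((p - 1 : ℕ) : R) = 1)
  (hχ : ∀ m : (ZMod p)ˣ, m ≠ 1 → IsUnit ((χ m : R) - 1))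
  (δ : A ⊗[R] D R A)
  (hδ : ∀ a : A, TensorProduct.rid R A
    (LinearMap.lTensor A ((Module.Dual.eval R A a) ∘ₗ (toDual R A).toLinearMap) δ) = a)
  (ϕ : MonoidAlgebra R (Multiplicative (ZMod p)) →ₐ[R] A ⊗[R] D R A)
  (hϕ : ϕ (OortTate.muT R p) = δ)

include hδ hϕ in
lemma thetaLin_phi_ygen (i : ℕ) :
    thetaLin R A (ϕ (OortTate.ygen R p u χ i)) = augProj A p u χ i :=
  theta_phi_ygen (thetaAlg R A) δ (thetaLin_delta δ hδ) p ϕ hϕ u χ i

include hp hu hχ hδ hϕ in
/-- `ϕ(y_i)` is the `(I_i ⊗ I_i^D)`-component of the canonical element -/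
lemma phi_ygen_eq_map (i : ℕ) :
    ϕ (OortTate.ygen R p u χ i) =
      TensorProduct.map (augProj A p u χ i) (augProj (D R A) p u χ i) δ := by
  apply (thetaLin R A).injective
  rw [thetaLin_phi_ygen p u χ δ hδ ϕ hϕ, thetaLin_map_augProj, thetaLin_delta δ hδ]
  apply LinearMap.ext
  intro x
  rw [LinearMap.comp_apply, LinearMap.comp_apply, LinearMap.id_apply,
    augProj_idem A p u χ hp hu hχ]

include hp hu hχ hδ hϕ in
lemma phi_ygen_mem_range (i : ℕ) :
    ϕ (OortTate.ygen R p u χ i) ∈
      LinearMap.range (TensorProduct.map (OortTate.eigenAug R A p χ i).subtype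
        (OortTate.eigenAug R (D R A) p χ i).subtype) := by
  have hpD := dual_killed R A p hp
  rw [phi_ygen_eq_map p u χ hp hu hχ δ hδ ϕ hϕ i]
  have h1 : augProj A p u χ i =
      (OortTate.eigenAug R A p χ i).subtype.comp (augRetr p u χ hp hu hχ i) := rfl
  have h2 : augProj (D R A) p u χ i =
      (OortTate.eigenAug R (D R A) p χ i).subtype.comp (augRetr p u χ hpD hu hχ i) := rfl
  rw [h1, h2, TensorProduct.map_comp]
  exact ⟨_, rfl⟩

variable (hrank : ∀ q : PrimeSpectrum R,
  Module.rankAtStalk (↥(OortTate.eigenAug R A p χ 1)) q = 1)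

include hp hu hχ hδ hϕ hrank in
lemma tmul_eq_smul_phi_ygen (a : A) (ha : a ∈ OortTate.eigenAug R A p χ 1) (ξ : D R A)
    (hξ : ξ ∈ OortTate.eigenAug R (D R A) p χ 1) :
    a ⊗ₜ[R] ξ = ξ.ofConv a • ϕ (OortTate.ygen R p u χ 1) := by
  have hpD := dual_killed R A p hp
  have hfin := finite_eigenAug p u χ hp hu hχ 1
  have hproj := projective_eigenAug p u χ hp hu hχ 1
  apply (thetaLin R A).injective
  rw [map_smul, thetaLin_phi_ygen p u χ δ hδ ϕ hϕ]
  apply LinearMap.ext
  intro x
  rw [thetaLin_tmul, LinearMap.smul_apply]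
  have h1 : ξ.ofConv x = ξ.ofConv (augProj A p u χ 1 x) := by
    rw [← augProj_dual, augProj_of_mem (D R A) p u χ hpD hu 1 ξ hξ]
  rw [h1]
  have h2 := smul_comm_of_rankOne hrank
    (ξ.ofConv.comp (OortTate.eigenAug R A p χ 1).subtype) ⟨a, ha⟩
    ⟨augProj A p u χ 1 x, augProj_mem A p u χ hp hu hχ 1 x⟩
  exact congrArg Subtype.val h2

include hp hu hχ hδ hϕ hrank in
theorem pairing_main :
    Submodule.span R {ϕ (OortTate.ygen R p u χ 1)} =
        LinearMap.range (TensorProduct.map (OortTate.eigenAug R A p χ 1).subtype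
          (OortTate.eigenAug R (D R A) p χ 1).subtype) ∧
      ∀ r : R, r • ϕ (OortTate.ygen R p u χ 1) = 0 → r = 0 := by
  have hfin := finite_eigenAug p u χ hp hu hχ 1
  have hproj := projective_eigenAug p u χ hp hu hχ 1
  constructor
  · apply le_antisymm
    · rw [Submodule.span_singleton_le_iff_mem]
      exact phi_ygen_mem_range p u χ hp hu hχ δ hδ ϕ hϕ 1
    · rintro _ ⟨z, rfl⟩
      induction z using TensorProduct.induction_on with
      | zero => rw [map_zero]; exact Submodule.zero_mem _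
      | tmul a ξ =>
        rw [TensorProduct.map_tmul, Submodule.subtype_apply, Submodule.subtype_apply,
          tmul_eq_smul_phi_ygen p u χ hp hu hχ δ hδ ϕ hϕ hrank a a.2 ξ ξ.2]
        exact Submodule.smul_mem _ _ (Submodule.mem_span_singleton_self _)
      | add z z' hz hz' => rw [map_add]; exact Submodule.add_mem _ hz hz'
  · intro r hr
    apply eq_zero_of_smul_rankOne hrank
    intro x
    have h1 := congrArg (thetaLin R A) hr
    rw [map_smul, thetaLin_phi_ygen p u χ δ hδ ϕ hϕ, map_zero] at h1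
    have h2 := LinearMap.congr_fun h1 (x : A)
    rw [LinearMap.smul_apply, augProj_of_mem A p u χ hp hu 1 _ x.2, LinearMap.zero_apply] at h2
    apply Subtype.ext
    exact h2

end Main

end Groth.Agent.H9.OT
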