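import Mathlib
import Groth.Agent.Lib.Helper9.OT.BaseChange

/-!
# Oort–Tate: presentation of a group scheme of order `p` by the eigenspace `I_1` (helper9)
-/

set_option autoImplicit false
set_option linter.unusedSectionVars false

universe u v

open TensorProduct WithConv

namespace Groth.Agent.H9.OT

section RankLemma

variable {R : Type u} [CommRing R] {M : Type*} {N : Type*} [AddCommGroup M] [Module R M]
  [AddCommGroup N] [Module R N] [Module.Finite R M] [Module.Projective R M]
  [Module.Finite R N] [Module.Projective R N]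

/-- a surjection between finite projective modules of the same rank is bijective -/
theorem bijective_of_surjective_of_rankAtStalk_eq (f : M →ₗ[R] N) (hf : Function.Surjective f)
    (h : Module.rankAtStalk (R := R) M = Module.rankAtStalk (R := R) N) :
    Function.Bijective f := by
  refine ⟨?_, hf⟩
  obtain ⟨g, hg⟩ := Module.projective_lifting_property f LinearMap.id hf
  have hg' : ∀ n, f (g n) = n := fun n => LinearMap.congr_fun hg n
  -- the projection onto the kernel
  let r : M →ₗ[R] LinearMap.ker f :=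
    LinearMap.codRestrict _ (LinearMap.id - g.comp f) (by
      intro m
      rw [LinearMap.mem_ker, LinearMap.sub_apply, map_sub, LinearMap.id_apply,
        LinearMap.comp_apply, hg', sub_self])
  have hr : r.comp (LinearMap.ker f).subtype = LinearMap.id := by
    apply LinearMap.ext
    intro k
    apply Subtype.ext
    show (k : M) - g (f k) = k
    rw [LinearMap.mem_ker.mp k.2, map_zero, sub_zero]
  have hfin : Module.Finite R (LinearMap.ker f) := by
    apply Module.Finite.of_surjective r
    intro k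
    exact ⟨k, LinearMap.congr_fun hr k⟩
  have hproj : Module.Projective R (LinearMap.ker f) :=
    Module.Projective.of_split (LinearMap.ker f).subtype r hr
  let e : M ≃ₗ[R] (N × LinearMap.ker f) :=
    { toFun := fun m => (f m, r m)
      map_add' := fun a b => by rw [map_add, map_add]; rfl
      map_smul' := fun c a => by rw [map_smul, map_smul]; rfl
      invFun := fun x => g x.1 + (x.2 : M)
      left_inv := fun m => by
        show g (f m) + (m - g (f m)) = m
        abel
      right_inv := fun x => by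
        obtain ⟨n, k⟩ := x
        have hk : f (k : M) = 0 := LinearMap.mem_ker.mp k.2
        apply Prod.ext
        · show f (g n + (k : M)) = n
          rw [map_add, hg', hk, add_zero]
        · apply Subtype.ext
          show (g n + (k : M)) - g (f (g n + (k : M))) = k
          rw [map_add, hg', hk, add_zero]
          abel }
  have h1 := Module.rankAtStalk_eq_of_equiv (R := R) e
  rw [Module.rankAtStalk_prod, h] at h1
  have h2 : Module.rankAtStalk (R := R) (LinearMap.ker f) = 0 := by
    funext q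
    have := congrFun h1 q
    simp only [Pi.add_apply, Pi.zero_apply] at this ⊢
    omega
  have h3 : Subsingleton (LinearMap.ker f) := Module.rankAtStalk_eq_zero_iff_subsingleton.mp h2
  rw [← LinearMap.ker_eq_bot]
  exact Submodule.subsingleton_iff_eq_bot.mp h3

end RankLemma

section MulMap

variable {R : Type u} [CommRing R] {A : Type u} [CommRing A] [HopfAlgebra R A]
  [Module.Finite R A] [Module.Projective R A]
  (p : ℕ) [Fact p.Prime] (u : R) (χ : (ZMod p)ˣ →* Rˣ)

/-- multiplication `I_1 ⊗ I_s → I_{s+1}` -/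
noncomputable def mulMap (s : ℕ) :
    (↥(OortTate.eigenAug R A p χ 1)) ⊗[R] (↥(OortTate.eigenAug R A p χ s)) →ₗ[R]
      ↥(OortTate.eigenAug R A p χ (s + 1)) :=
  TensorProduct.lift
    (LinearMap.mk₂ R
      (fun x y => (⟨(x : A) * (y : A), by
        have h := mul_mem_eigenAug x.2 y.2
        rwa [add_comm] at h⟩ : ↥(OortTate.eigenAug R A p χ (s + 1))))
      (fun x x' y => by
        apply Subtype.ext
        show ((x + x' : ↥(OortTate.eigenAug R A p χ 1)) : A) * (y : A) = _
        rw [Submodule.coe_add, add_mul]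
        rfl)
      (fun c x y => by
        apply Subtype.ext
        show ((c • x : ↥(OortTate.eigenAug R A p χ 1)) : A) * (y : A) = _
        rw [Submodule.coe_smul, smul_mul_assoc]
        rfl)
      (fun x y y' => by
        apply Subtype.ext
        show (x : A) * ((y + y' : ↥(OortTate.eigenAug R A p χ s)) : A) = _
        rw [Submodule.coe_add, mul_add]
        rfl)
      (fun c x y => by
        apply Subtype.ext
        show (x : A) * ((c • y : ↥(OortTate.eigenAug R A p χ s)) : A) = _
        rw [Submodule.coe_smul, mul_smul_comm]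
        rfl))

lemma mulMap_tmul (s : ℕ) (x : ↥(OortTate.eigenAug R A p χ 1))
    (y : ↥(OortTate.eigenAug R A p χ s)) :
    ((mulMap p χ s (x ⊗ₜ[R] y) : ↥(OortTate.eigenAug R A p χ (s + 1))) : A) = (x : A) * (y : A) := by
  unfold mulMap
  rw [TensorProduct.lift.tmul]
  rfl

variable (hp : (toConv (AlgHom.id R A) : WithConv (A →ₐ[R] A)) ^ p = 1)
  (hu : u * ((p - 1 : ℕ) : R) = 1)
  (hχ : ∀ m : (ZMod p)ˣ, m ≠ 1 → IsUnit ((χ m : R) - 1))
  (hχp : ∀ m : (ZMod p)ˣ, ((χ m : Rˣ) : R) - (((m : ZMod p).val : ℕ) : R) ∈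
    Ideal.span ({(p : R)} : Set R))
  (hrk : ∀ q : PrimeSpectrum R, Module.rankAtStalk A q = p)

include hp hu hχ hχp hrk in
lemma mulMap_surjective (s : ℕ) (hs1 : 1 ≤ s) (hs2 : s + 1 ≤ p - 1) :
    Function.Surjective (mulMap (R := R) (A := A) p χ s) := by
  intro z
  have h1 : (z : A) ∈ OortTate.eigenAug R A p χ 1 * OortTate.eigenAug R A p χ s := by
    rw [← eigenAug_pow_eq p u χ hp hu hχ hχp hrk s hs1 (by omega), ← pow_succ',
      eigenAug_pow_eq p u χ hp hu hχ hχp hrk (s + 1) (by omega) hs2]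
    exact z.2
  have h2 : ∀ a : A, a ∈ OortTate.eigenAug R A p χ 1 * OortTate.eigenAug R A p χ s →
      ∃ w, ((mulMap (R := R) (A := A) p χ s w : ↥(OortTate.eigenAug R A p χ (s + 1))) : A) = a := by
    intro a ha
    refine Submodule.mul_induction_on ha ?_ ?_
    · intro x hx y hy
      exact ⟨(⟨x, hx⟩ : ↥(OortTate.eigenAug R A p χ 1)) ⊗ₜ[R]
        (⟨y, hy⟩ : ↥(OortTate.eigenAug R A p χ s)), mulMap_tmul p χ s _ _⟩
    · rintro a b ⟨w, hw⟩ ⟨w', hw'⟩
      refine ⟨w + w', ?_⟩
      rw [map_add, Submodule.coe_add, hw, hw']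
  obtain ⟨w, hw⟩ := h2 _ h1
  exact ⟨w, Subtype.ext hw⟩

include hp hu hχ hχp hrk in
lemma mulMap_bijective (s : ℕ) (hs1 : 1 ≤ s) (hs2 : s + 1 ≤ p - 1) :
    Function.Bijective (mulMap (R := R) (A := A) p χ s) := by
  have hf1 := finite_eigenAug p u χ hp hu hχ 1
  have hp1 := projective_eigenAug p u χ hp hu hχ 1
  have hfs := finite_eigenAug p u χ hp hu hχ s
  have hps := projective_eigenAug p u χ hp hu hχ s
  have hfs1 := finite_eigenAug p u χ hp hu hχ (s + 1)
  have hps1 := projective_eigenAug p u χ hp hu hχ (s + 1)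
  have hft : Module.Finite R ((↥(OortTate.eigenAug R A p χ 1)) ⊗[R]
    (↥(OortTate.eigenAug R A p χ s))) := inferInstance
  have hpt : Module.Projective R ((↥(OortTate.eigenAug R A p χ 1)) ⊗[R]
    (↥(OortTate.eigenAug R A p χ s))) := inferInstance
  refine bijective_of_surjective_of_rankAtStalk_eq (R := R)
    (M := (↥(OortTate.eigenAug R A p χ 1)) ⊗[R] (↥(OortTate.eigenAug R A p χ s)))
    (N := ↥(OortTate.eigenAug R A p χ (s + 1))) (mulMap (R := R) (A := A) p χ s)
    (mulMap_surjective p u χ hp hu hχ hχp hrk s hs1 hs2) ?_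
  funext q
  rw [Module.rankAtStalk_tensorProduct, Pi.mul_apply,
    rankAtStalk_eigenAug p u χ hp hu hχ hχp hrk 1 q,
    rankAtStalk_eigenAug p u χ hp hu hχ hχp hrk s q,
    rankAtStalk_eigenAug p u χ hp hu hχ hχp hrk (s + 1) q]

end MulMap

section Tau

variable {R : Type u} [CommRing R] {A : Type u} [CommRing A] [HopfAlgebra R A]
  [Module.Finite R A] [Module.Projective R A]
  (p : ℕ) [Fact p.Prime] (u : R) (χ : (ZMod p)ˣ →* Rˣ)
  (hp : (toConv (AlgHom.id R A) : WithConv (A →ₐ[R] A)) ^ p = 1)
  (hu : u * ((p - 1 : ℕ) : R) = 1)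
  (hχ : ∀ m : (ZMod p)ˣ, m ≠ 1 → IsUnit ((χ m : R) - 1))

lemma augRetr_augProj (i : ℕ) (a : A) :
    augRetr p u χ hp hu hχ i (augProj A p u χ i a) = augRetr p u χ hp hu hχ i a := by
  apply Subtype.ext
  rw [augRetr_coe, augRetr_coe, augProj_idem A p u χ hp hu hχ]

lemma augRetr_of_mem (i : ℕ) (a : A) (ha : a ∈ OortTate.eigenAug R A p χ i) :
    augRetr p u χ hp hu hχ i a = ⟨a, ha⟩ := by
  apply Subtype.ext
  rw [augRetr_coe, augProj_of_mem A p u χ hp hu i a ha]

/-- one step of the recursion defining the section -/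
noncomputable def stepTau (s : ℕ)
    (τ : A →ₗ[R] TensorAlgebra R ↥(OortTate.eigenAug R A p χ 1)) :
    A →ₗ[R] TensorAlgebra R ↥(OortTate.eigenAug R A p χ 1) := by
  classical
  exact if h : Function.Bijective (mulMap (R := R) (A := A) p χ s) then
    (LinearMap.mul' R (TensorAlgebra R ↥(OortTate.eigenAug R A p χ 1))) ∘ₗ
      (TensorProduct.map (TensorAlgebra.ι R) (τ ∘ₗ (OortTate.eigenAug R A p χ s).subtype)) ∘ₗ
      (LinearEquiv.ofBijective (mulMap (R := R) (A := A) p χ s) h).symm.toLinearMap ∘ₗ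
      (augRetr p u χ hp hu hχ (s + 1))
  else 0

lemma stepTau_pos (s : ℕ) (τ : A →ₗ[R] TensorAlgebra R ↥(OortTate.eigenAug R A p χ 1))
    (h : Function.Bijective (mulMap (R := R) (A := A) p χ s)) (a : A) :
    stepTau p u χ hp hu hχ s τ a =
      LinearMap.mul' R (TensorAlgebra R ↥(OortTate.eigenAug R A p χ 1))
        (TensorProduct.map (TensorAlgebra.ι R) (τ ∘ₗ (OortTate.eigenAug R A p χ s).subtype)
          ((LinearEquiv.ofBijective (mulMap (R := R) (A := A) p χ s) h).symm
            (augRetr p u χ hp hu hχ (s + 1) a))) := by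
  unfold stepTau
  rw [dif_pos h]
  rfl

lemma stepTau_factor (s : ℕ) (τ : A →ₗ[R] TensorAlgebra R ↥(OortTate.eigenAug R A p χ 1))
    (a : A) :
    stepTau p u χ hp hu hχ s τ a = stepTau p u χ hp hu hχ s τ (augProj A p u χ (s + 1) a) := by
  by_cases h : Function.Bijective (mulMap (R := R) (A := A) p χ s)
  · rw [stepTau_pos p u χ hp hu hχ s τ h, stepTau_pos p u χ hp hu hχ s τ h, augRetr_augProj]
  · unfold stepTau
    rw [dif_neg h]
    rfl

/-- the components of the section `A → T(I_1)` -/
noncomputable def tau : ℕ → (A →ₗ[R] TensorAlgebra R ↥(OortTate.eigenAug R A p χ 1))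
  | 0 => 0
  | (s + 1) =>
    if s = 0 then (TensorAlgebra.ι R) ∘ₗ (augRetr p u χ hp hu hχ 1)
    else stepTau p u χ hp hu hχ s (tau s)

lemma tau_one (a : A) :
    tau p u χ hp hu hχ 1 a = TensorAlgebra.ι R (augRetr p u χ hp hu hχ 1 a) := by
  show (if (0 : ℕ) = 0 then (TensorAlgebra.ι R) ∘ₗ (augRetr p u χ hp hu hχ 1)
    else stepTau p u χ hp hu hχ 0 (tau p u χ hp hu hχ 0)) a = _
  rw [if_pos rfl]
  rfl

lemma tau_succ (s : ℕ) (hs : s ≠ 0) :
    tau p u χ hp hu hχ (s + 1) = stepTau p u χ hp hu hχ s (tau p u χ hp hu hχ s) := by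
  show (if s = 0 then (TensorAlgebra.ι R) ∘ₗ (augRetr p u χ hp hu hχ 1)
    else stepTau p u χ hp hu hχ s (tau p u χ hp hu hχ s)) = _
  rw [if_neg hs]

lemma tau_factor (s : ℕ) (a : A) :
    tau p u χ hp hu hχ s a = tau p u χ hp hu hχ s (augProj A p u χ s a) := by
  rcases s with _ | s
  · rfl
  · by_cases hs : s = 0
    · subst hs
      rw [tau_one, tau_one, augRetr_augProj]
    · rw [tau_succ p u χ hp hu hχ s hs]
      exact stepTau_factor p u χ hp hu hχ s _ a

lemma tau_mul (s : ℕ) (hs : s ≠ 0) (h : Function.Bijective (mulMap (R := R) (A := A) p χ s))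
    (x : ↥(OortTate.eigenAug R A p χ 1)) (y : ↥(OortTate.eigenAug R A p χ s)) :
    tau p u χ hp hu hχ (s + 1) ((x : A) * (y : A)) =
      TensorAlgebra.ι R x * tau p u χ hp hu hχ s (y : A) := by
  rw [tau_succ p u χ hp hu hχ s hs, stepTau_pos p u χ hp hu hχ s _ h]
  have h1 : augRetr p u χ hp hu hχ (s + 1) ((x : A) * (y : A)) =
      (LinearEquiv.ofBijective (mulMap (R := R) (A := A) p χ s) h) (x ⊗ₜ[R] y) := by
    apply Subtype.ext
    rw [augRetr_coe, LinearEquiv.ofBijective_apply, mulMap_tmul]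
    apply augProj_of_mem A p u χ hp hu
    have h2 := mul_mem_eigenAug x.2 y.2
    rwa [add_comm] at h2
  rw [h1, LinearEquiv.symm_apply_apply, TensorProduct.map_tmul, LinearMap.mul'_apply]
  rfl

end Tau

section Main

variable {R : Type u} [CommRing R] {A : Type u} [CommRing A] [HopfAlgebra R A]
  [Module.Finite R A] [Module.Projective R A]
  (p : ℕ) [Fact p.Prime] (u : R) (χ : (ZMod p)ˣ →* Rˣ)
  (hp : (toConv (AlgHom.id R A) : WithConv (A →ₐ[R] A)) ^ p = 1)
  (hu : u * ((p - 1 : ℕ) : R) = 1)
  (hχ : ∀ m : (ZMod p)ˣ, m ≠ 1 → IsUnit ((χ m : R) - 1))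
  (hχp : ∀ m : (ZMod p)ˣ, ((χ m : Rˣ) : R) - (((m : ZMod p).val : ℕ) : R) ∈
    Ideal.span ({(p : R)} : Set R))
  (hrk : ∀ q : PrimeSpectrum R, Module.rankAtStalk A q = p)

include hp hu hχ hχp hrk in
lemma pi_tau (s : ℕ) (hs1 : 1 ≤ s) (hs2 : s ≤ p - 1) (a : A) :
    TensorAlgebra.lift R (OortTate.eigenAug R A p χ 1).subtype (tau p u χ hp hu hχ s a) =
      augProj A p u χ s a := by
  induction s, hs1 using Nat.le_induction generalizing a with
  | base =>
    rw [tau_one, TensorAlgebra.lift_ι_apply]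
    rfl
  | succ s hs1 ih =>
    have h := mulMap_bijective p u χ hp hu hχ hχp hrk s hs1 hs2
    rw [tau_succ p u χ hp hu hχ s (by omega), stepTau_pos p u χ hp hu hχ s _ h]
    have key : ∀ z : (↥(OortTate.eigenAug R A p χ 1)) ⊗[R] (↥(OortTate.eigenAug R A p χ s)),
        TensorAlgebra.lift R (OortTate.eigenAug R A p χ 1).subtype
          (LinearMap.mul' R (TensorAlgebra R ↥(OortTate.eigenAug R A p χ 1))
            (TensorProduct.map (TensorAlgebra.ι R)
              (tau p u χ hp hu hχ s ∘ₗ (OortTate.eigenAug R A p χ s).subtype) z)) =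
          ((mulMap (R := R) (A := A) p χ s z : ↥(OortTate.eigenAug R A p χ (s + 1))) : A) := by
      intro z
      induction z using TensorProduct.induction_on with
      | zero => simp
      | tmul x y =>
        rw [TensorProduct.map_tmul, LinearMap.mul'_apply, map_mul, TensorAlgebra.lift_ι_apply,
          LinearMap.comp_apply, ih (by omega) _, mulMap_tmul, Submodule.subtype_apply,
          Submodule.subtype_apply, augProj_of_mem A p u χ hp hu s _ y.2]
      | add z z' hz hz' => rw [map_add, map_add, map_add, hz, hz', map_add, Submodule.coe_add]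
    rw [key, ← LinearEquiv.ofBijective_apply (hf := h), LinearEquiv.apply_symm_apply]
    rfl

lemma prod_mem_eigenAug (s : ℕ) (hs : 1 ≤ s) (f : Fin s → ↥(OortTate.eigenAug R A p χ 1)) :
    ∏ i, (f i : A) ∈ OortTate.eigenAug R A p χ s := by
  induction s, hs using Nat.le_induction with
  | base =>
    rw [Fin.prod_univ_succ, Fin.prod_univ_zero, mul_one]
    exact (f 0).2
  | succ s hs ih =>
    rw [Fin.prod_univ_succ]
    have h := mul_mem_eigenAug (f 0).2 (ih (fun i => f i.succ))
    rwa [add_comm] at h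

include hp hu hχ hχp hrk in
lemma tau_prod (s : ℕ) (hs1 : 1 ≤ s) (hs2 : s ≤ p - 1)
    (f : Fin s → ↥(OortTate.eigenAug R A p χ 1)) :
    tau p u χ hp hu hχ s (∏ i, (f i : A)) =
      (List.ofFn fun i => TensorAlgebra.ι R (f i)).prod := by
  induction s, hs1 using Nat.le_induction with
  | base =>
    rw [Fin.prod_univ_succ, Fin.prod_univ_zero, mul_one, List.ofFn_succ, List.ofFn_zero,
      List.prod_cons, List.prod_nil, mul_one, tau_one,
      augRetr_of_mem p u χ hp hu hχ 1 _ (f 0).2]
  | succ s hs1 ih =>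
    have h := mulMap_bijective p u χ hp hu hχ hχp hrk s hs1 hs2
    rw [Fin.prod_univ_succ, List.ofFn_succ, List.prod_cons]
    have hy := prod_mem_eigenAug (R := R) (A := A) p χ s hs1 (fun i => f i.succ)
    have h1 := tau_mul p u χ hp hu hχ s (by omega) h (f 0)
      ⟨∏ i : Fin s, ((f i.succ : ↥(OortTate.eigenAug R A p χ 1)) : A), hy⟩
    rw [h1, ih (by omega) (fun i => f i.succ)]

include hp hu hχ in
lemma augProj_eq_zero (s j : ℕ) (hs1 : 1 ≤ s) (hs2 : s ≤ p - 1) (hj1 : 1 ≤ j) (hj2 : j ≤ p - 1)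
    (hsj : s ≠ j) (x : A) (hx : x ∈ OortTate.eigenAug R A p χ j) :
    augProj A p u χ s x = 0 := by
  have hpos : 0 < p - 1 := Nat.sub_pos_of_lt (Fact.out : p.Prime).one_lt
  rw [mem_eigenAug_iff A p u χ hp hu] at hx
  rw [augProj_apply, pw_zero_apply, hx.1, map_zero, sub_zero, ← hx.2,
    proj_mod A p u χ hp s, proj_mod A p u χ hp j]
  have hne : (⟨s % (p - 1), Nat.mod_lt _ hpos⟩ : Fin (p - 1)) ≠ ⟨j % (p - 1), Nat.mod_lt _ hpos⟩ := by
    intro h
    have h' : s % (p - 1) = j % (p - 1) := congrArg Fin.val h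
    rcases Nat.lt_or_ge s (p - 1) with h1 | h1
    · rcases Nat.lt_or_ge j (p - 1) with h2 | h2
      · rw [Nat.mod_eq_of_lt h1, Nat.mod_eq_of_lt h2] at h'
        exact hsj h'
      · have : j = p - 1 := le_antisymm hj2 h2
        rw [this, Nat.mod_self, Nat.mod_eq_of_lt h1] at h'
        omega
    · have hs : s = p - 1 := le_antisymm hs2 h1
      rcases Nat.lt_or_ge j (p - 1) with h2 | h2
      · rw [hs, Nat.mod_self, Nat.mod_eq_of_lt h2] at h'
        omega
      · have : j = p - 1 := le_antisymm hj2 h2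
        omega
  exact proj_ortho A p u χ hp hu hχ _ _ hne x

include hp hu hχ in
lemma decomp (a : A) :
    a = algebraMap R A (CoalgebraStruct.counit (R := R) a) +
      ∑ i ∈ Finset.range (p - 1), augProj A p u χ (i + 1) a := by
  have hpos : 0 < p - 1 := Nat.sub_pos_of_lt (Fact.out : p.Prime).one_lt
  have h1 : ∑ i ∈ Finset.range (p - 1), augProj A p u χ (i + 1) a =
      ∑ i ∈ Finset.range (p - 1), augProj A p u χ i a := by
    have h2 := Finset.sum_range_succ' (fun i => augProj A p u χ i a) (p - 1)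
    have h3 := Finset.sum_range_succ (fun i => augProj A p u χ i a) (p - 1)
    have h4 : augProj A p u χ (p - 1) a = augProj A p u χ 0 a := by
      rw [augProj_apply, augProj_apply, proj_mod A p u χ hp (p - 1), Nat.mod_self]
    rw [h3, h4] at h2
    exact (add_right_cancel h2).symm
  rw [h1, Finset.sum_range (fun i => augProj A p u χ i a)]
  have h5 : ∑ i : Fin (p - 1), augProj A p u χ (i : ℕ) a = a - pw R A 0 a := by
    simp only [augProj_apply]
    exact sum_proj A p u χ hp hu hχ (a - pw R A 0 a)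
  rw [h5, pw_zero_apply]
  ring

/-- the section `A → T(I_1)` -/
noncomputable def sigma : A →ₗ[R] TensorAlgebra R ↥(OortTate.eigenAug R A p χ 1) :=
  (Algebra.linearMap R (TensorAlgebra R ↥(OortTate.eigenAug R A p χ 1))) ∘ₗ
    (Coalgebra.counit : A →ₗ[R] R) + ∑ i ∈ Finset.range (p - 1), tau p u χ hp hu hχ (i + 1)

lemma sigma_apply (a : A) :
    sigma p u χ hp hu hχ a =
      algebraMap R (TensorAlgebra R ↥(OortTate.eigenAug R A p χ 1))
        (CoalgebraStruct.counit (R := R) a) +
      ∑ i ∈ Finset.range (p - 1), tau p u χ hp hu hχ (i + 1) a := by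
  unfold sigma
  rw [LinearMap.add_apply, LinearMap.sum_apply]
  rfl

include hχp hrk in
lemma pi_sigma (a : A) :
    TensorAlgebra.lift R (OortTate.eigenAug R A p χ 1).subtype (sigma p u χ hp hu hχ a) = a := by
  rw [sigma_apply, map_add, AlgHom.commutes, map_sum]
  conv_rhs => rw [decomp p u χ hp hu hχ a]
  congr 1
  apply Finset.sum_congr rfl
  intro i hi
  rw [Finset.mem_range] at hi
  exact pi_tau p u χ hp hu hχ hχp hrk (i + 1) (by omega) (by omega) a

lemma sigma_of_mem (j : ℕ) (hj1 : 1 ≤ j) (hj2 : j ≤ p - 1) (x : A)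
    (hx : x ∈ OortTate.eigenAug R A p χ j) :
    sigma p u χ hp hu hχ x = tau p u χ hp hu hχ j x := by
  have hε : CoalgebraStruct.counit (R := R) x = 0 := by
    rw [mem_eigenAug_iff A p u χ hp hu] at hx
    exact hx.1
  rw [sigma_apply, hε, map_zero, zero_add, Finset.sum_eq_single (j - 1)]
  · rw [Nat.sub_add_cancel hj1]
  · intro i hi hij
    rw [Finset.mem_range] at hi
    rw [tau_factor, augProj_eq_zero p u χ hp hu hχ (i + 1) j (by omega) (by omega) hj1 hj2
      (by omega) x hx, map_zero]
  · intro h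
    exfalso
    apply h
    rw [Finset.mem_range]
    omega

lemma sigma_one : sigma p u χ hp hu hχ (1 : A) = 1 := by
  rw [sigma_apply, Bialgebra.counit_one, map_one, Finset.sum_eq_zero, add_zero]
  intro i _
  rw [tau_factor, augProj_apply, pw_zero_apply, Bialgebra.counit_one, map_one, sub_self, map_zero,
    map_zero]

/-- the ideal of relations -/
noncomputable def relIdeal : Ideal (TensorAlgebra R ↥(OortTate.eigenAug R A p χ 1)) :=
  Ideal.span {x : TensorAlgebra R (OortTate.eigenAug R A p χ 1) |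
    ∃ (f : Fin p → OortTate.eigenAug R A p χ 1) (g : OortTate.eigenAug R A p χ 1),
      (g : A) = ∏ i, (f i : A) ∧
      x = (List.ofFn fun i => TensorAlgebra.ι R (f i)).prod - TensorAlgebra.ι R g}

lemma relIdeal_le_ker :
    relIdeal (R := R) (A := A) p χ ≤
      RingHom.ker (TensorAlgebra.lift R (OortTate.eigenAug R A p χ 1).subtype) := by
  unfold relIdeal
  rw [Ideal.span_le]
  rintro _ ⟨f, g, hg, rfl⟩
  rw [SetLike.mem_coe, RingHom.mem_ker, map_sub, map_list_prod, List.map_ofFn,
    TensorAlgebra.lift_ι_apply, List.prod_ofFn, sub_eq_zero]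
  rw [Submodule.subtype_apply, hg]
  apply Finset.prod_congr rfl
  intro i _
  rw [Function.comp_apply, TensorAlgebra.lift_ι_apply]
  rfl

include hp hu hχ hχp hrk in
/-- the key congruence: `ι x · σ a ≡ σ (x a)` modulo the relations -/
lemma iota_mul_sigma (x : ↥(OortTate.eigenAug R A p χ 1)) (a : A) :
    TensorAlgebra.ι R x * sigma p u χ hp hu hχ a - sigma p u χ hp hu hχ ((x : A) * a) ∈
      relIdeal (R := R) (A := A) p χ := by
  have hprime : p.Prime := Fact.out
  have h2le : 2 ≤ p := hprime.two_le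
  set J := relIdeal (R := R) (A := A) p χ with hJ
  -- the difference as a linear map
  let Δ : A →ₗ[R] TensorAlgebra R ↥(OortTate.eigenAug R A p χ 1) :=
    (LinearMap.mulLeft R (TensorAlgebra.ι R x)) ∘ₗ (sigma p u χ hp hu hχ) -
      (sigma p u χ hp hu hχ) ∘ₗ (LinearMap.mulLeft R (x : A))
  have hΔ : ∀ b, Δ b = TensorAlgebra.ι R x * sigma p u χ hp hu hχ b -
      sigma p u χ hp hu hχ ((x : A) * b) := fun b => rfl
  rw [← hΔ]
  have hJsub : ∀ b, b ∈ J.restrictScalars R ↔ b ∈ J := fun b => Iff.rfl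
  rw [← hJsub]
  -- case `1`
  have h1 : Δ 1 ∈ J.restrictScalars R := by
    rw [hJsub, hΔ, sigma_one, mul_one, mul_one,
      sigma_of_mem p u χ hp hu hχ 1 le_rfl (by omega) _ x.2, tau_one,
      augRetr_of_mem p u χ hp hu hχ 1 _ x.2, sub_self]
    exact J.zero_mem
  -- case `I_j`
  have h2 : ∀ j, 1 ≤ j → j ≤ p - 1 → ∀ y ∈ OortTate.eigenAug R A p χ j,
      Δ y ∈ J.restrictScalars R := by
    intro j hj1 hj2 y hy
    rcases Nat.lt_or_ge j (p - 1) with hlt | hge
    · -- `j + 1 ≤ p - 1`
      have hxy : (x : A) * y ∈ OortTate.eigenAug R A p χ (j + 1) := by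
        have h := mul_mem_eigenAug x.2 hy
        rwa [add_comm] at h
      have hb := mulMap_bijective p u χ hp hu hχ hχp hrk j hj1 (by omega)
      rw [hJsub, hΔ, sigma_of_mem p u χ hp hu hχ j hj1 hj2 y hy,
        sigma_of_mem p u χ hp hu hχ (j + 1) (by omega) (by omega) _ hxy]
      have h3 := tau_mul p u χ hp hu hχ j (by omega) hb x ⟨y, hy⟩
      rw [h3, sub_self]
      exact J.zero_mem
    · -- `j = p - 1`
      have hj : j = p - 1 := le_antisymm hj2 hge
      subst hj
      have hy' : y ∈ (OortTate.eigenAug R A p χ 1) ^ (p - 1) := by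
        rw [eigenAug_pow_eq p u χ hp hu hχ hχp hrk (p - 1) hj1 le_rfl]
        exact hy
      rw [Submodule.pow_eq_span_pow_set] at hy'
      refine Submodule.span_induction ?_ ?_ ?_ ?_ hy'
      · intro z hz
        rw [Set.mem_pow] at hz
        obtain ⟨f, rfl⟩ := hz
        have hprod : (List.ofFn fun i => ((f i : (OortTate.eigenAug R A p χ 1 : Set A)) : A)).prod =
            ∏ i, ((⟨(f i : A), (f i).2⟩ : ↥(OortTate.eigenAug R A p χ 1)) : A) := by
          rw [List.prod_ofFn]
        rw [hprod]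
        set f' : Fin (p - 1) → ↥(OortTate.eigenAug R A p χ 1) := fun i => ⟨(f i : A), (f i).2⟩
          with hf'
        have hz' := prod_mem_eigenAug (R := R) (A := A) p χ (p - 1) hj1 f'
        have hmem1 : (x : A) * ∏ i, (f' i : A) ∈ OortTate.eigenAug R A p χ 1 := by
          have h := mul_mem_eigenAug x.2 hz'
          have heq : OortTate.eigenAug R A p χ (1 + (p - 1)) = OortTate.eigenAug R A p χ 1 := by
            rw [eigenAug_mod R A p χ (1 + (p - 1)), eigenAug_mod R A p χ 1, Nat.add_mod_right]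
          exact (SetLike.ext_iff.mp heq _).mp h
        rw [hJsub, hΔ, sigma_of_mem p u χ hp hu hχ (p - 1) hj1 le_rfl _ hz',
          sigma_of_mem p u χ hp hu hχ 1 le_rfl hj1 _ hmem1, tau_one,
          augRetr_of_mem p u χ hp hu hχ 1 _ hmem1,
          tau_prod p u χ hp hu hχ hχp hrk (p - 1) hj1 le_rfl f']
        -- a generator
        apply Ideal.subset_span
        have hpp : p - 1 + 1 = p := Nat.sub_add_cancel hprime.one_lt.le
        refine ⟨fun i => Fin.cons (α := fun _ => ↥(OortTate.eigenAug R A p χ 1)) x f'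
          (Fin.cast hpp.symm i), ⟨_, hmem1⟩, ?_, ?_⟩
        · show (x : A) * ∏ i, (f' i : A) = _
          have h6 : ∏ i : Fin p, ((Fin.cons (α := fun _ => ↥(OortTate.eigenAug R A p χ 1)) x f'
              (Fin.cast hpp.symm i) : ↥(OortTate.eigenAug R A p χ 1)) : A) =
              ∏ i : Fin (p - 1 + 1), ((Fin.cons (α := fun _ => ↥(OortTate.eigenAug R A p χ 1)) x f'
              i : ↥(OortTate.eigenAug R A p χ 1)) : A) := by
            exact Fintype.prod_equiv (finCongr hpp.symm) _ _ (fun i => rfl)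
          rw [h6, Fin.prod_univ_succ]
          simp only [Fin.cons_zero, Fin.cons_succ]
        · congr 1
          have h7 : (List.ofFn fun i : Fin p => TensorAlgebra.ι R
              (Fin.cons (α := fun _ => ↥(OortTate.eigenAug R A p χ 1)) x f'
                (Fin.cast hpp.symm i))) =
              (List.ofFn fun i : Fin (p - 1 + 1) => TensorAlgebra.ι R
              (Fin.cons (α := fun _ => ↥(OortTate.eigenAug R A p χ 1)) x f' i)) := by
            rw [List.ofFn_congr hpp.symm]
            simp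
          rw [h7, List.ofFn_succ, List.prod_cons]
          simp only [Fin.cons_zero, Fin.cons_succ]
      · rw [map_zero]
        exact Submodule.zero_mem _
      · intro a b _ _ ha hb
        rw [map_add]
        exact Submodule.add_mem _ ha hb
      · intro c a _ ha
        rw [map_smul]
        exact Submodule.smul_mem _ c ha
  -- general `a`
  rw [decomp p u χ hp hu hχ a, map_add, map_sum, Algebra.algebraMap_eq_smul_one, map_smul]
  apply Submodule.add_mem
  · exact Submodule.smul_mem _ _ h1
  · apply Submodule.sum_mem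
    intro i hi
    rw [Finset.mem_range] at hi
    exact h2 (i + 1) (by omega) (by omega) _ (augProj_mem A p u χ hp hu hχ (i + 1) a)

include hp hu hχ hχp hrk in
/-- **Presentation of a group scheme of order `p`** by its eigenspace `I_1`. -/
theorem presentation :
    Function.Surjective (TensorAlgebra.lift R (OortTate.eigenAug R A p χ 1).subtype) ∧
      RingHom.ker (TensorAlgebra.lift R (OortTate.eigenAug R A p χ 1).subtype) =
        relIdeal (R := R) (A := A) p χ := by
  set π := TensorAlgebra.lift R (OortTate.eigenAug R A p χ 1).subtype with hπ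
  set J := relIdeal (R := R) (A := A) p χ with hJ
  refine ⟨fun a => ⟨sigma p u χ hp hu hχ a, pi_sigma p u χ hp hu hχ hχp hrk a⟩,
    le_antisymm ?_ (relIdeal_le_ker p χ)⟩
  let D : TensorAlgebra R ↥(OortTate.eigenAug R A p χ 1) →ₗ[R]
      TensorAlgebra R ↥(OortTate.eigenAug R A p χ 1) :=
    LinearMap.id - (sigma p u χ hp hu hχ) ∘ₗ π.toLinearMap
  have hD : ∀ t, D t = t - sigma p u χ hp hu hχ (π t) := fun t => rfl
  have hW : ∀ t : TensorAlgebra R ↥(OortTate.eigenAug R A p χ 1),
      ∀ w, D w ∈ J → D (t * w) ∈ J := by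
    intro t
    refine TensorAlgebra.induction (C := fun t => ∀ w, D w ∈ J → D (t * w) ∈ J) ?_ ?_ ?_ ?_ t
    · intro r w hw
      rw [← Algebra.smul_def, map_smul]
      exact (J.restrictScalars R).smul_mem r hw
    · intro x w hw
      have h1 : D (TensorAlgebra.ι R x * w) = TensorAlgebra.ι R x * D w +
          (TensorAlgebra.ι R x * sigma p u χ hp hu hχ (π w) -
            sigma p u χ hp hu hχ ((x : A) * π w)) := by
        rw [hD, hD, map_mul, hπ, TensorAlgebra.lift_ι_apply, mul_sub]
        simp only [Submodule.subtype_apply]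
        abel
      rw [h1]
      exact J.add_mem (J.mul_mem_left _ hw) (iota_mul_sigma p u χ hp hu hχ hχp hrk x (π w))
    · intro a b ha hb w hw
      rw [mul_assoc]
      exact ha _ (hb _ hw)
    · intro a b ha hb w hw
      rw [add_mul, map_add]
      exact J.add_mem (ha w hw) (hb w hw)
  have h1 : D 1 ∈ J := by
    rw [hD, map_one, sigma_one, sub_self]
    exact J.zero_mem
  intro t ht
  have h2 := hW t 1 h1
  rw [mul_one, hD, RingHom.mem_ker.mp ht, map_zero, sub_zero] at h2
  exact h2

end Main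

end Groth.Agent.H9.OT
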