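import Mathlib
import Groth.Prelude.Def_CartDual2
import Groth.Agent.Lib.Helper9.OT.Pres
import Groth.Agent.Lib.Helper9.OT.Pairing
import Groth.Agent.Lib.Helper9.OT.MuP
import Groth.Agent.Lib.Helper9.OT.DualRank

/-!
# Oort–Tate: reconstruction of a group scheme of order `p` from `(I_1, a, b)` (helper9)
-/

set_option autoImplicit false
set_option linter.unusedSectionVars false

universe u v

open TensorProduct WithConv

namespace Groth.Agent.H9.OT

open CartDual

section LiftSurj

variable {R : Type*} [CommRing R] {T : Type*} [Ring T] [Algebra R T] {B : Type*} [Ring B]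
  [Algebra R B] {C : Type*} [Ring C] [Algebra R C]

/-- descend an algebra hom along a surjective algebra hom (noncommutative source) -/
noncomputable def liftSurj (π : T →ₐ[R] B) (hπ : Function.Surjective π) (F : T →ₐ[R] C)
    (hker : ∀ t, π t = 0 → F t = 0) : B →ₐ[R] C :=
  { RingHom.liftOfSurjective π.toRingHom hπ ⟨F.toRingHom, fun t ht => by
      rw [RingHom.mem_ker] at ht ⊢
      exact hker t ht⟩ with
    commutes' := fun r => by
      have h := RingHom.liftOfSurjective_comp_apply π.toRingHom hπ ⟨F.toRingHom, fun t ht => by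
        rw [RingHom.mem_ker] at ht ⊢
        exact hker t ht⟩ (algebraMap R T r)
      have h1 : π.toRingHom (algebraMap R T r) = algebraMap R B r := π.commutes r
      have h2 : F.toRingHom (algebraMap R T r) = algebraMap R C r := F.commutes r
      rw [h1] at h
      exact h.trans h2 }

lemma liftSurj_apply (π : T →ₐ[R] B) (hπ : Function.Surjective π) (F : T →ₐ[R] C)
    (hker : ∀ t, π t = 0 → F t = 0) (t : T) : liftSurj π hπ F hker (π t) = F t :=
  RingHom.liftOfSurjective_comp_apply π.toRingHom hπ ⟨F.toRingHom, fun t ht => by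
    rw [RingHom.mem_ker] at ht ⊢
    exact hker t ht⟩ t

end LiftSurj

section PartI

variable {R : Type u} [CommRing R] {A : Type u} [CommRing A] [HopfAlgebra R A]
  [Module.Finite R A] [Module.Projective R A]
  {A' : Type u} [CommRing A'] [HopfAlgebra R A'] [Module.Finite R A'] [Module.Projective R A']
  (p : ℕ) [Fact p.Prime] (u : R) (χ : (ZMod p)ˣ →* Rˣ)

lemma eigenAug_prime : OortTate.eigenAug R A p χ p = OortTate.eigenAug R A p χ 1 := by
  have hprime : p.Prime := Fact.out
  have h1 : p % (p - 1) = 1 % (p - 1) := by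
    have h2 : p = 1 + (p - 1) := by have := hprime.two_le; omega
    have h3 : (1 + (p - 1)) % (p - 1) = 1 % (p - 1) := Nat.add_mod_right 1 (p - 1)
    rw [← h2] at h3
    exact h3
  rw [eigenAug_mod R A p χ p, eigenAug_mod R A p χ 1, h1]

lemma prod_mem_eigenAug_one (f : Fin p → ↥(OortTate.eigenAug R A p χ 1)) :
    ∏ i, (f i : A) ∈ OortTate.eigenAug R A p χ 1 := by
  have hprime : p.Prime := Fact.out
  have h := prod_mem_eigenAug (R := R) (A := A) p χ p hprime.one_lt.le f
  exact (SetLike.ext_iff.mp (eigenAug_prime (R := R) (A := A) p χ) _).mp h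

/-- compatibility of `θ⁻¹` with `p`-fold products -/
lemma theta_symm_compat
    (θ : OortTate.eigenAug R A p χ 1 ≃ₗ[R] OortTate.eigenAug R A' p χ 1)
    (hθ : ∀ (f : Fin p → OortTate.eigenAug R A p χ 1) (g : OortTate.eigenAug R A p χ 1),
      (g : A) = ∏ i, (f i : A) →
        ((θ g : OortTate.eigenAug R A' p χ 1) : A') = ∏ i, ((θ (f i)) : A'))
    (f' : Fin p → OortTate.eigenAug R A' p χ 1) (g' : OortTate.eigenAug R A' p χ 1)
    (hg' : (g' : A') = ∏ i, (f' i : A')) :
    ((θ.symm g' : OortTate.eigenAug R A p χ 1) : A) = ∏ i, ((θ.symm (f' i)) : A) := by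
  set g₀ : OortTate.eigenAug R A p χ 1 :=
    ⟨∏ i, ((θ.symm (f' i)) : A), prod_mem_eigenAug_one p χ (fun i => θ.symm (f' i))⟩ with hg₀
  have h1 := hθ (fun i => θ.symm (f' i)) g₀ rfl
  simp only [LinearEquiv.apply_symm_apply] at h1
  have h2 : θ g₀ = g' := Subtype.ext (h1.trans hg'.symm)
  have h3 : θ.symm g' = g₀ := by rw [← h2, LinearEquiv.symm_apply_apply]
  rw [h3]

variable (hp : (toConv (AlgHom.id R A) : WithConv (A →ₐ[R] A)) ^ p = 1)
  (hp' : (toConv (AlgHom.id R A') : WithConv (A' →ₐ[R] A')) ^ p = 1)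
  (hu : u * ((p - 1 : ℕ) : R) = 1)
  (hχ : ∀ m : (ZMod p)ˣ, m ≠ 1 → IsUnit ((χ m : R) - 1))
  (hχp : ∀ m : (ZMod p)ˣ, ((χ m : Rˣ) : R) - (((m : ZMod p).val : ℕ) : R) ∈
    Ideal.span ({(p : R)} : Set R))
  (hrk : ∀ q : PrimeSpectrum R, Module.rankAtStalk A q = p)
  (hrk' : ∀ q : PrimeSpectrum R, Module.rankAtStalk A' q = p)

include hp hu hχ hχp hrk in
/-- an algebra map out of `A` from a linear map on `I_1` compatible with `p`-fold products -/
theorem exists_algHom_of_theta
    (θ : OortTate.eigenAug R A p χ 1 →ₗ[R] OortTate.eigenAug R A' p χ 1)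
    (hθ : ∀ (f : Fin p → OortTate.eigenAug R A p χ 1) (g : OortTate.eigenAug R A p χ 1),
      (g : A) = ∏ i, (f i : A) →
        ((θ g : OortTate.eigenAug R A' p χ 1) : A') = ∏ i, ((θ (f i)) : A')) :
    ∃ f : A →ₐ[R] A', ∀ x : OortTate.eigenAug R A p χ 1, f (x : A) = (θ x : A') := by
  obtain ⟨hsurj, hker⟩ := presentation p u χ hp hu hχ hχp hrk
  let F : TensorAlgebra R ↥(OortTate.eigenAug R A p χ 1) →ₐ[R] A' :=
    TensorAlgebra.lift R ((OortTate.eigenAug R A' p χ 1).subtype ∘ₗ θ)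
  have hF : ∀ x, F (TensorAlgebra.ι R x) = (θ x : A') := by
    intro x
    rw [TensorAlgebra.lift_ι_apply]
    rfl
  have hk : ∀ t, TensorAlgebra.lift R (OortTate.eigenAug R A p χ 1).subtype t = 0 → F t = 0 := by
    intro t ht
    have h1 : t ∈ RingHom.ker (TensorAlgebra.lift R (OortTate.eigenAug R A p χ 1).subtype) :=
      RingHom.mem_ker.mpr ht
    rw [hker] at h1
    have h2 : relIdeal (R := R) (A := A) p χ ≤ RingHom.ker F := by
      unfold relIdeal
      rw [Ideal.span_le]
      rintro _ ⟨f, g, hg, rfl⟩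
      rw [SetLike.mem_coe, RingHom.mem_ker, map_sub, map_list_prod, List.map_ofFn, hF,
        List.prod_ofFn, sub_eq_zero, hθ f g hg]
      apply Finset.prod_congr rfl
      intro i _
      rw [Function.comp_apply, hF]
    exact RingHom.mem_ker.mp (h2 h1)
  refine ⟨liftSurj _ hsurj F hk, ?_⟩
  intro x
  have h3 := liftSurj_apply _ hsurj F hk (TensorAlgebra.ι R x)
  rw [TensorAlgebra.lift_ι_apply, hF] at h3
  exact h3

include hp hu hχ hχp hrk in
/-- two algebra maps out of `A` agreeing on `I_1` are equal -/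
theorem algHom_ext_of_eigenAug {C : Type*} [Ring C] [Algebra R C] (f₁ f₂ : A →ₐ[R] C)
    (h : ∀ x : OortTate.eigenAug R A p χ 1, f₁ (x : A) = f₂ (x : A)) : f₁ = f₂ := by
  obtain ⟨hsurj, -⟩ := presentation p u χ hp hu hχ hχp hrk
  have h1 : f₁.comp (TensorAlgebra.lift R (OortTate.eigenAug R A p χ 1).subtype) =
      f₂.comp (TensorAlgebra.lift R (OortTate.eigenAug R A p χ 1).subtype) := by
    apply TensorAlgebra.hom_ext
    apply LinearMap.ext
    intro x
    simp only [LinearMap.comp_apply, AlgHom.toLinearMap_apply, AlgHom.comp_apply,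
      TensorAlgebra.lift_ι_apply]
    exact h x
  apply AlgHom.ext
  intro a
  obtain ⟨t, rfl⟩ := hsurj a
  exact AlgHom.congr_fun h1 t

include hp hp' hu hχ hχp hrk hrk' in
/-- an algebra isomorphism from a linear isomorphism on `I_1` compatible with `p`-fold products -/
theorem exists_algEquiv_of_theta
    (θ : OortTate.eigenAug R A p χ 1 ≃ₗ[R] OortTate.eigenAug R A' p χ 1)
    (hθ : ∀ (f : Fin p → OortTate.eigenAug R A p χ 1) (g : OortTate.eigenAug R A p χ 1),
      (g : A) = ∏ i, (f i : A) →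
        ((θ g : OortTate.eigenAug R A' p χ 1) : A') = ∏ i, ((θ (f i)) : A')) :
    ∃ f : A ≃ₐ[R] A', ∀ x : OortTate.eigenAug R A p χ 1, f (x : A) = (θ x : A') := by
  obtain ⟨f₀, hf₀⟩ := exists_algHom_of_theta p u χ hp hu hχ hχp hrk θ.toLinearMap hθ
  obtain ⟨f₁, hf₁⟩ := exists_algHom_of_theta p u χ hp' hu hχ hχp hrk' θ.symm.toLinearMap
    (theta_symm_compat p χ θ hθ)
  have h1 : f₀.comp f₁ = AlgHom.id R A' := by
    apply algHom_ext_of_eigenAug p u χ hp' hu hχ hχp hrk'
    intro x
    rw [AlgHom.comp_apply, hf₁, hf₀]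
    simp
  have h2 : f₁.comp f₀ = AlgHom.id R A := by
    apply algHom_ext_of_eigenAug p u χ hp hu hχ hχp hrk
    intro x
    rw [AlgHom.comp_apply, hf₀, hf₁]
    simp
  exact ⟨AlgEquiv.ofAlgHom f₀ f₁ h1 h2, hf₀⟩

end PartI

section PartII

variable {R : Type u} [CommRing R] {A : Type u} [CommRing A] [HopfAlgebra R A]
  [Coalgebra.IsCocomm R A] [Module.Finite R A] [Module.Projective R A]
  {A' : Type u} [CommRing A'] [HopfAlgebra R A'] [Coalgebra.IsCocomm R A']
  [Module.Finite R A'] [Module.Projective R A']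
  (p : ℕ) [Fact p.Prime] (u : R) (χ : (ZMod p)ˣ →* Rˣ)

/-- restriction of linear forms `I_1(A^D) → Hom(I_1(A), R)` -/
noncomputable def resLin :
    ↥(OortTate.eigenAug R (D R A) p χ 1) →ₗ[R] (↥(OortTate.eigenAug R A p χ 1) →ₗ[R] R) :=
  (LinearMap.lcomp R R (OortTate.eigenAug R A p χ 1).subtype) ∘ₗ (toDual R A).toLinearMap ∘ₗ
    (OortTate.eigenAug R (D R A) p χ 1).subtype

lemma resLin_apply (φ : ↥(OortTate.eigenAug R (D R A) p χ 1))
    (x : ↥(OortTate.eigenAug R A p χ 1)) :
    resLin p χ φ x = toDual R A (φ : D R A) (x : A) := rfl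

variable (hp : (toConv (AlgHom.id R A) : WithConv (A →ₐ[R] A)) ^ p = 1)
  (hp' : (toConv (AlgHom.id R A') : WithConv (A' →ₐ[R] A')) ^ p = 1)
  (hu : u * ((p - 1 : ℕ) : R) = 1)
  (hχ : ∀ m : (ZMod p)ˣ, m ≠ 1 → IsUnit ((χ m : R) - 1))

include hp hu hχ in
lemma resLin_bijective : Function.Bijective (resLin (R := R) (A := A) p χ) :=
  dual_eigen_bijective p u hu χ hχ hp 1

/-- `I_1(A^D) ≃ Hom(I_1(A), R)` -/
noncomputable def resEquiv :
    ↥(OortTate.eigenAug R (D R A) p χ 1) ≃ₗ[R] (↥(OortTate.eigenAug R A p χ 1) →ₗ[R] R) :=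
  LinearEquiv.ofBijective (resLin p χ) (resLin_bijective p u χ hp hu hχ)

lemma resEquiv_apply (φ : ↥(OortTate.eigenAug R (D R A) p χ 1))
    (x : ↥(OortTate.eigenAug R A p χ 1)) :
    resEquiv p u χ hp hu hχ φ x = toDual R A (φ : D R A) (x : A) := rfl

/-- the transpose inverse of `θ` on `I_1` of the duals -/
noncomputable def thetaD (θ : OortTate.eigenAug R A p χ 1 ≃ₗ[R] OortTate.eigenAug R A' p χ 1) :
    ↥(OortTate.eigenAug R (D R A) p χ 1) ≃ₗ[R] ↥(OortTate.eigenAug R (D R A') p χ 1) :=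
  (resEquiv p u χ hp hu hχ) ≪≫ₗ θ.symm.dualMap ≪≫ₗ (resEquiv p u χ hp' hu hχ).symm

lemma thetaD_spec (θ : OortTate.eigenAug R A p χ 1 ≃ₗ[R] OortTate.eigenAug R A' p χ 1)
    (φ : ↥(OortTate.eigenAug R (D R A) p χ 1)) (x : ↥(OortTate.eigenAug R A p χ 1)) :
    toDual R A' ((thetaD p u χ hp hp' hu hχ θ φ : ↥(OortTate.eigenAug R (D R A') p χ 1)) : D R A')
      ((θ x : ↥(OortTate.eigenAug R A' p χ 1)) : A') = toDual R A (φ : D R A) (x : A) := by
  rw [← resEquiv_apply p u χ hp' hu hχ, ← resEquiv_apply p u χ hp hu hχ]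
  unfold thetaD
  rw [LinearEquiv.trans_apply, LinearEquiv.trans_apply, LinearEquiv.apply_symm_apply,
    LinearEquiv.dualMap_apply, LinearEquiv.symm_apply_apply]

lemma thetaD_compat (θ : OortTate.eigenAug R A p χ 1 ≃ₗ[R] OortTate.eigenAug R A' p χ 1)
    (hθD : ∀ (φ : Fin p → OortTate.eigenAug R (CartDual.D R A) p χ 1)
      (φ' : Fin p → OortTate.eigenAug R (CartDual.D R A') p χ 1)
      (ψ : OortTate.eigenAug R (CartDual.D R A) p χ 1)
      (ψ' : OortTate.eigenAug R (CartDual.D R A') p χ 1),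
      (∀ i, ∀ x : OortTate.eigenAug R A p χ 1,
        CartDual.toDual R A (φ i : CartDual.D R A) (x : A) =
          CartDual.toDual R A' (φ' i : CartDual.D R A')
            ((θ x : OortTate.eigenAug R A' p χ 1) : A')) →
      (ψ : CartDual.D R A) = ∏ i, (φ i : CartDual.D R A) →
      (ψ' : CartDual.D R A') = ∏ i, (φ' i : CartDual.D R A') →
      ∀ x : OortTate.eigenAug R A p χ 1,
        CartDual.toDual R A (ψ : CartDual.D R A) (x : A) =
          CartDual.toDual R A' (ψ' : CartDual.D R A')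
            ((θ x : OortTate.eigenAug R A' p χ 1) : A'))
    (φ : Fin p → OortTate.eigenAug R (D R A) p χ 1) (ψ : OortTate.eigenAug R (D R A) p χ 1)
    (hψ : (ψ : D R A) = ∏ i, (φ i : D R A)) :
    ((thetaD p u χ hp hp' hu hχ θ ψ : ↥(OortTate.eigenAug R (D R A') p χ 1)) : D R A') =
      ∏ i, ((thetaD p u χ hp hp' hu hχ θ (φ i) : ↥(OortTate.eigenAug R (D R A') p χ 1)) : D R A') := by
  set ψ' : OortTate.eigenAug R (D R A') p χ 1 :=
    ⟨∏ i, ((thetaD p u χ hp hp' hu hχ θ (φ i) : ↥(OortTate.eigenAug R (D R A') p χ 1)) : D R A'),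
      prod_mem_eigenAug_one p χ (fun i => thetaD p u χ hp hp' hu hχ θ (φ i))⟩ with hψ'
  have h1 := hθD φ (fun i => thetaD p u χ hp hp' hu hχ θ (φ i)) ψ ψ'
    (fun i x => (thetaD_spec p u χ hp hp' hu hχ θ (φ i) x).symm) hψ rfl
  have h2 : thetaD p u χ hp hp' hu hχ θ ψ = ψ' := by
    apply (resEquiv p u χ hp' hu hχ).injective
    apply LinearMap.ext
    intro x'
    obtain ⟨x, rfl⟩ := θ.surjective x'
    rw [resEquiv_apply, resEquiv_apply, thetaD_spec]
    exact h1 x
  rw [h2]

end PartII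

section PhiConstr

variable {R : Type u} [CommRing R] {E : Type v} [Ring E] [Algebra R E] (p : ℕ) [hpf : Fact p.Prime]

/-- an element of order `p` defines an algebra map from the group algebra of `ℤ/p` -/
lemma exists_phi (δ : E) (hδ : δ ^ p = 1) :
    ∃ ϕ : MonoidAlgebra R (Multiplicative (ZMod p)) →ₐ[R] E, ϕ (OortTate.muT R p) = δ := by
  have hlt : Fact (1 < p) := ⟨hpf.out.one_lt⟩
  let m : Multiplicative (ZMod p) →* E :=
    { toFun := fun g => δ ^ (Multiplicative.toAdd g).val
      map_one' := by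
        show δ ^ (0 : ZMod p).val = 1
        rw [ZMod.val_zero, pow_zero]
      map_mul' := fun a b => by
        show δ ^ (Multiplicative.toAdd a + Multiplicative.toAdd b).val =
          δ ^ (Multiplicative.toAdd a).val * δ ^ (Multiplicative.toAdd b).val
        rw [← pow_add, ZMod.val_add, ← pow_eq_pow_mod _ hδ] }
  refine ⟨MonoidAlgebra.lift R E (Multiplicative (ZMod p)) m, ?_⟩
  unfold OortTate.muT
  rw [MonoidAlgebra.lift_of]
  show δ ^ (1 : ZMod p).val = δ
  rw [ZMod.val_one, pow_one]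

variable (u : R) (χ : (ZMod p)ˣ →* Rˣ)
  (hu : u * ((p - 1 : ℕ) : R) = 1)
  (hχ : ∀ m : (ZMod p)ˣ, m ≠ 1 → IsUnit ((χ m : R) - 1))
  (hχp : ∀ m : (ZMod p)ˣ, ((χ m : Rˣ) : R) - (((m : ZMod p).val : ℕ) : R) ∈
    Ideal.span ({(p : R)} : Set R))

include hu hχ hχp in
lemma phi_ext (ϕ₁ ϕ₂ : MonoidAlgebra R (Multiplicative (ZMod p)) →ₐ[R] E)
    (h : ϕ₁ (OortTate.ygen R p u χ 1) = ϕ₂ (OortTate.ygen R p u χ 1)) : ϕ₁ = ϕ₂ := by
  apply AlgHom.ext_of_adjoin_eq_top (adjoin_ygen_eq_top p u χ hu hχ hχp)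
  intro y hy
  rw [Set.mem_singleton_iff] at hy
  rw [hy]
  exact h

end PhiConstr

section Delta

variable (R : Type u) [CommRing R] (A : Type u) [CommRing A] [HopfAlgebra R A]
  [Coalgebra.IsCocomm R A] [Module.Finite R A] [Module.Projective R A]

/-- the canonical element of `A ⊗ A^D` -/
noncomputable def canonDelta : A ⊗[R] D R A := (thetaLin R A).symm LinearMap.id

lemma thetaLin_canonDelta : thetaLin R A (canonDelta R A) = LinearMap.id :=
  LinearEquiv.apply_symm_apply _ _

lemma canonDelta_spec (a : A) :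
    TensorProduct.rid R A (LinearMap.lTensor A
      ((Module.Dual.eval R A a) ∘ₗ (toDual R A).toLinearMap) (canonDelta R A)) = a := by
  rw [← thetaLin_eval, thetaLin_canonDelta]
  rfl

lemma canonDelta_pow (p : ℕ)
    (hp : (toConv (AlgHom.id R A) : WithConv (A →ₐ[R] A)) ^ p = 1) :
    canonDelta R A ^ p = 1 := by
  have hΘ : (thetaAlg R A (canonDelta R A)).ofConv = LinearMap.id := thetaLin_canonDelta R A
  have h1 := theta_delta_pow (thetaAlg R A) (canonDelta R A) hΘ p
  have h2 := theta_delta_pow (thetaAlg R A) (canonDelta R A) hΘ 0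
  have h3 : pw R A p = pw R A 0 := by
    show ((toConv (AlgHom.id R A) : WithConv (A →ₐ[R] A)) ^ p).ofConv =
      ((toConv (AlgHom.id R A) : WithConv (A →ₐ[R] A)) ^ 0).ofConv
    rw [hp, pow_zero]
  rw [h3, ← h2] at h1
  have h4 := thetaAlg_injective R A h1
  rw [h4, pow_zero]

/-- elements of `I_i(A^D)` factor through the projection onto `I_i(A)` -/
lemma eigen_dual_apply (p : ℕ) [Fact p.Prime] (u : R) (χ : (ZMod p)ˣ →* Rˣ)
    (hp : (toConv (AlgHom.id R A) : WithConv (A →ₐ[R] A)) ^ p = 1)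
    (hu : u * ((p - 1 : ℕ) : R) = 1) (i : ℕ) (ξ : D R A)
    (hξ : ξ ∈ OortTate.eigenAug R (D R A) p χ i) (a : A) :
    ξ.ofConv a = ξ.ofConv (augProj A p u χ i a) := by
  rw [← augProj_dual, augProj_of_mem (D R A) p u χ (dual_killed R A p hp) hu i ξ hξ]

end Delta

section Dualize

variable {R : Type u} [CommRing R] {A : Type u} [CommRing A] [HopfAlgebra R A]
  [Coalgebra.IsCocomm R A] [Module.Finite R A] [Module.Projective R A]
  {A' : Type u} [CommRing A'] [HopfAlgebra R A'] [Coalgebra.IsCocomm R A']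
  [Module.Finite R A'] [Module.Projective R A']

/-- `a ⊗ η ↦ ξ(a) η` -/
noncomputable def evL (ξ : D R A) : A ⊗[R] D R A →ₗ[R] D R A :=
  (TensorProduct.lid R (D R A)).toLinearMap ∘ₗ (LinearMap.rTensor (D R A) ξ.ofConv)

lemma evL_tmul (ξ : D R A) (a : A) (η : D R A) : evL ξ (a ⊗ₜ[R] η) = ξ.ofConv a • η := by
  unfold evL
  rw [LinearMap.comp_apply, LinearMap.rTensor_tmul]
  exact TensorProduct.lid_tmul _ _

lemma evL_apply (ξ : D R A) (z : A ⊗[R] D R A) (x : A) :
    (evL ξ z).ofConv x = ξ.ofConv (thetaLin R A z x) := by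
  induction z using TensorProduct.induction_on with
  | zero => simp
  | tmul a η =>
    rw [evL_tmul, thetaLin_tmul, map_smul]
    show ξ.ofConv a • η.ofConv x = η.ofConv x • ξ.ofConv a
    rw [smul_eq_mul, smul_eq_mul, mul_comm]
  | add z z' hz hz' =>
    rw [map_add, map_add, LinearMap.add_apply, map_add, ← hz, ← hz']
    rfl

lemma evL_canonDelta (ξ : D R A) : evL ξ (canonDelta R A) = ξ := by
  apply WithConv.ext
  apply LinearMap.ext
  intro x
  rw [evL_apply, thetaLin_canonDelta]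
  rfl

/-- the key duality computation -/
lemma dual_transfer (f : A ≃ₐ[R] A') (g : D R A →ₗ[R] D R A') (ξ : D R A) (z : A ⊗[R] D R A)
    (x' : A') :
    ξ.ofConv (f.symm (thetaLin R A' (TensorProduct.map f.toLinearMap g z) x')) =
      (g (evL ξ z)).ofConv x' := by
  induction z using TensorProduct.induction_on with
  | zero => simp
  | tmul a η =>
    rw [TensorProduct.map_tmul, thetaLin_tmul, evL_tmul, map_smul, map_smul, map_smul]
    show (g η).ofConv x' • ξ.ofConv (f.symm (f a)) = ξ.ofConv a • (g η).ofConv x'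
    rw [AlgEquiv.symm_apply_apply, smul_eq_mul, smul_eq_mul, mul_comm]
  | add z z' hz hz' =>
    rw [map_add, map_add, LinearMap.add_apply, map_add, map_add, map_add, map_add, hz, hz']
    rfl

/-- if `f ⊗ g` preserves the canonical elements then `g` is the transpose inverse of `f` -/
lemma dual_of_canonDelta (f : A ≃ₐ[R] A') (g : D R A →ₗ[R] D R A')
    (h : TensorProduct.map f.toLinearMap g (canonDelta R A) = canonDelta R A')
    (ξ : D R A) (a : A) : (g ξ).ofConv (f a) = ξ.ofConv a := by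
  have h1 := dual_transfer f g ξ (canonDelta R A) (f a)
  rw [h, thetaLin_canonDelta, LinearMap.id_apply, AlgEquiv.symm_apply_apply,
    evL_canonDelta] at h1
  exact h1.symm

/-- an algebra isomorphism whose transpose inverse is multiplicative is a bialgebra isomorphism -/
theorem bialgEquiv_of_dual (f : A ≃ₐ[R] A') (g : D R A →ₐ[R] D R A')
    (hg : ∀ (ξ : D R A) (a : A), (g ξ).ofConv (f a) = ξ.ofConv a) (hgs : Function.Surjective g) :
    Nonempty (A ≃ₐc[R] A') := by
  have hcounit : ∀ a : A, CoalgebraStruct.counit (R := R) (f a) =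
      CoalgebraStruct.counit (R := R) a := by
    intro a
    have h1 := hg 1 a
    rw [map_one, LinearMap.convOne_apply, LinearMap.convOne_apply] at h1
    exact h1
  have hcomul : ∀ a : A, TensorProduct.map f.toLinearMap f.toLinearMap
      (CoalgebraStruct.comul (R := R) a) = CoalgebraStruct.comul (R := R) (f a) := by
    intro a
    rw [← sub_eq_zero]
    apply (Module.forall_dual_apply_eq_zero_iff R _).mp
    intro φ
    obtain ⟨y, rfl⟩ := (ev₂ R A').surjective φ
    induction y using TensorProduct.induction_on with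
    | zero => rw [map_zero, LinearMap.zero_apply]
    | tmul ξ' ζ' =>
      obtain ⟨ξ, rfl⟩ := hgs ξ'
      obtain ⟨ζ, rfl⟩ := hgs ζ'
      rw [ev₂_tmul_eq', map_sub, sub_eq_zero, LinearMap.comp_apply, LinearMap.comp_apply]
      have h2 := LinearMap.convMul_apply (g ξ) (g ζ) (f a)
      rw [← h2, ← map_mul, hg, LinearMap.convMul_apply]
      generalize CoalgebraStruct.comul (R := R) a = t
      induction t using TensorProduct.induction_on with
      | zero => simp
      | tmul b c =>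
        rw [TensorProduct.map_tmul, TensorProduct.map_tmul, TensorProduct.map_tmul,
          LinearMap.mul'_apply, LinearMap.mul'_apply]
        show (g ξ).ofConv (f b) * (g ζ).ofConv (f c) = ξ.ofConv b * ζ.ofConv c
        rw [hg, hg]
      | add t t' ht ht' => simp only [map_add, ht, ht']
    | add y y' hy hy' => rw [map_add, LinearMap.add_apply, hy, hy', add_zero]
  refine ⟨BialgEquiv.ofAlgEquiv f ?_ ?_⟩
  · apply AlgHom.ext
    intro a
    exact hcounit a
  · apply AlgHom.ext
    intro a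
    show Algebra.TensorProduct.map (f : A →ₐ[R] A') (f : A →ₐ[R] A')
      (CoalgebraStruct.comul (R := R) a) = CoalgebraStruct.comul (R := R) (f a)
    rw [← hcomul a]
    generalize CoalgebraStruct.comul (R := R) a = t
    induction t using TensorProduct.induction_on with
    | zero => simp
    | tmul b c => rfl
    | add t t' ht ht' => simp only [map_add, ht, ht']

end Dualize

section Final

variable {R : Type u} [CommRing R] {A : Type u} [CommRing A] [HopfAlgebra R A]
  [Coalgebra.IsCocomm R A] [Module.Finite R A] [Module.Projective R A]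
  {A' : Type u} [CommRing A'] [HopfAlgebra R A'] [Coalgebra.IsCocomm R A']
  [Module.Finite R A'] [Module.Projective R A']
  (p : ℕ) [hpf : Fact p.Prime] (u : R) (χ : (ZMod p)ˣ →* Rˣ)
  (hp : (toConv (AlgHom.id R A) : WithConv (A →ₐ[R] A)) ^ p = 1)
  (hp' : (toConv (AlgHom.id R A') : WithConv (A' →ₐ[R] A')) ^ p = 1)
  (hu : u * ((p - 1 : ℕ) : R) = 1)
  (hχ : ∀ m : (ZMod p)ˣ, m ≠ 1 → IsUnit ((χ m : R) - 1))

include hp hp' hu hχ in
/-- transport of the `(I_1 ⊗ I_1^D)`-part of the pairing -/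
lemma thetaLin_map_transfer
    (θ : OortTate.eigenAug R A p χ 1 ≃ₗ[R] OortTate.eigenAug R A' p χ 1)
    (f : A ≃ₐ[R] A')
    (g : D R A →ₗ[R] D R A')
    (hg : ∀ φ : OortTate.eigenAug R (D R A) p χ 1,
      g (φ : D R A) = (thetaD p u χ hp hp' hu hχ θ φ : D R A'))
    (w : (↥(OortTate.eigenAug R A p χ 1)) ⊗[R] (↥(OortTate.eigenAug R (D R A) p χ 1)))
    (x' : A') :
    thetaLin R A' (TensorProduct.map f.toLinearMap g
      (TensorProduct.map (OortTate.eigenAug R A p χ 1).subtype
        (OortTate.eigenAug R (D R A) p χ 1).subtype w)) x' =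
    f (thetaLin R A (TensorProduct.map (OortTate.eigenAug R A p χ 1).subtype
        (OortTate.eigenAug R (D R A) p χ 1).subtype w)
      ((θ.symm (augRetr p u χ hp' hu hχ 1 x') : ↥(OortTate.eigenAug R A p χ 1)) : A)) := by
  induction w using TensorProduct.induction_on with
  | zero => simp
  | tmul x ξ =>
    rw [TensorProduct.map_tmul, TensorProduct.map_tmul, thetaLin_tmul, thetaLin_tmul, map_smul]
    congr 1
    show (g (ξ : D R A)).ofConv x' = _
    rw [hg ξ, eigen_dual_apply R A' p u χ hp' hu 1 _ (thetaD p u χ hp hp' hu hχ θ ξ).2 x']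
    have h1 := thetaD_spec p u χ hp hp' hu hχ θ ξ (θ.symm (augRetr p u χ hp' hu hχ 1 x'))
    rw [LinearEquiv.apply_symm_apply] at h1
    exact h1
  | add w w' hw hw' =>
    rw [map_add, map_add, map_add, LinearMap.add_apply, hw, hw', map_add (thetaLin R A),
      LinearMap.add_apply, map_add]

variable (hχp : ∀ m : (ZMod p)ˣ, ((χ m : Rˣ) : R) - (((m : ZMod p).val : ℕ) : R) ∈
    Ideal.span ({(p : R)} : Set R))
  (hrk : ∀ q : PrimeSpectrum R, Module.rankAtStalk A q = p)
  (hrk' : ∀ q : PrimeSpectrum R, Module.rankAtStalk A' q = p)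

include hp hp' hu hχ hχp hrk hrk' in
/-- **Reconstruction**: a group scheme of order `p` is determined by `(I_1, a, b)`. -/
theorem recon
    (θ : OortTate.eigenAug R A p χ 1 ≃ₗ[R] OortTate.eigenAug R A' p χ 1)
    (hθ : ∀ (f : Fin p → OortTate.eigenAug R A p χ 1) (g : OortTate.eigenAug R A p χ 1),
      (g : A) = ∏ i, (f i : A) →
        ((θ g : OortTate.eigenAug R A' p χ 1) : A') = ∏ i, ((θ (f i)) : A'))
    (hθD : ∀ (φ : Fin p → OortTate.eigenAug R (CartDual.D R A) p χ 1)
      (φ' : Fin p → OortTate.eigenAug R (CartDual.D R A') p χ 1)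
      (ψ : OortTate.eigenAug R (CartDual.D R A) p χ 1)
      (ψ' : OortTate.eigenAug R (CartDual.D R A') p χ 1),
      (∀ i, ∀ x : OortTate.eigenAug R A p χ 1,
        CartDual.toDual R A (φ i : CartDual.D R A) (x : A) =
          CartDual.toDual R A' (φ' i : CartDual.D R A')
            ((θ x : OortTate.eigenAug R A' p χ 1) : A')) →
      (ψ : CartDual.D R A) = ∏ i, (φ i : CartDual.D R A) →
      (ψ' : CartDual.D R A') = ∏ i, (φ' i : CartDual.D R A') →
      ∀ x : OortTate.eigenAug R A p χ 1,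
        CartDual.toDual R A (ψ : CartDual.D R A) (x : A) =
          CartDual.toDual R A' (ψ' : CartDual.D R A')
            ((θ x : OortTate.eigenAug R A' p χ 1) : A')) :
    Nonempty (A ≃ₐc[R] A') := by
  have hpD := dual_killed R A p hp
  have hpD' := dual_killed R A' p hp'
  have hrkD : ∀ q : PrimeSpectrum R, Module.rankAtStalk (D R A) q = p :=
    fun q => (rankAtStalk_dual R A q).trans (hrk q)
  have hrkD' : ∀ q : PrimeSpectrum R, Module.rankAtStalk (D R A') q = p :=
    fun q => (rankAtStalk_dual R A' q).trans (hrk' q)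
  obtain ⟨f, hf⟩ := exists_algEquiv_of_theta p u χ hp hp' hu hχ hχp hrk hrk' θ hθ
  obtain ⟨g, hg⟩ := exists_algEquiv_of_theta p u χ hpD hpD' hu hχ hχp hrkD hrkD'
    (thetaD p u χ hp hp' hu hχ θ) (thetaD_compat p u χ hp hp' hu hχ θ hθD)
  -- the canonical elements and the maps from the group algebra
  obtain ⟨ϕ, hϕ⟩ := exists_phi (R := R) p (canonDelta R A) (canonDelta_pow R A p hp)
  obtain ⟨ϕ', hϕ'⟩ := exists_phi (R := R) p (canonDelta R A') (canonDelta_pow R A' p hp')
  let FG : A ⊗[R] D R A →ₐ[R] A' ⊗[R] D R A' :=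
    Algebra.TensorProduct.map (f : A →ₐ[R] A') (g : D R A →ₐ[R] D R A')
  have hFG : ∀ z, FG z = TensorProduct.map f.toLinearMap g.toLinearMap z := by
    intro z
    have h1 : FG.toLinearMap = TensorProduct.map f.toLinearMap g.toLinearMap := by
      apply TensorProduct.ext'
      intro a η
      rfl
    exact LinearMap.congr_fun h1 z
  -- `(f ⊗ g)(ϕ y₁) = ϕ' y₁`
  have hy : FG (ϕ (OortTate.ygen R p u χ 1)) = ϕ' (OortTate.ygen R p u χ 1) := by
    apply (thetaLin R A').injective
    rw [thetaLin_phi_ygen p u χ (canonDelta R A') (canonDelta_spec R A') ϕ' hϕ']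
    obtain ⟨w, hw⟩ := phi_ygen_mem_range p u χ hp hu hχ (canonDelta R A) (canonDelta_spec R A)
      ϕ hϕ 1
    apply LinearMap.ext
    intro x'
    rw [hFG, ← hw, thetaLin_map_transfer p u χ hp hp' hu hχ θ f g.toLinearMap hg w x', hw,
      thetaLin_phi_ygen p u χ (canonDelta R A) (canonDelta_spec R A) ϕ hϕ,
      augProj_of_mem A p u χ hp hu 1 _ (θ.symm (augRetr p u χ hp' hu hχ 1 x')).2, hf,
      LinearEquiv.apply_symm_apply]
    rfl
  have hcomp : FG.comp ϕ = ϕ' :=
    phi_ext (E := A' ⊗[R] D R A') p u χ hu hχ hχp (FG.comp ϕ) ϕ' hy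
  have hδ : TensorProduct.map f.toLinearMap g.toLinearMap (canonDelta R A) = canonDelta R A' := by
    rw [← hFG, ← hϕ, ← hϕ', ← hcomp]
    rfl
  exact bialgEquiv_of_dual f (g : D R A →ₐ[R] D R A')
    (dual_of_canonDelta f g.toLinearMap hδ) g.surjective

end Final

end Groth.Agent.H9.OT
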