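import Mathlib
import Groth.Prelude.Def_CartDual2
import Groth.Agent.Lib.Helper9.OT.Recon

/-!
# Oort–Tate: the classification map is injective when `I_1` is free (helper9)
-/

set_option autoImplicit false
set_option linter.unusedSectionVars false

universe u v

open TensorProduct WithConv

namespace Groth.Agent.H9.OT

open CartDual

section Coord

variable {R : Type u} [CommRing R] {M : Type*} [AddCommGroup M] [Module R M]

/-- coordinates in a submodule generated by one element with a dual functional -/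
lemma eq_smul_of_span_singleton {L : Submodule R M} {x : M} (hx : Submodule.span R {x} = L)
    (ξ : M →ₗ[R] R) (hξ : ξ x = 1) {y : M} (hy : y ∈ L) : y = ξ y • x := by
  rw [← hx] at hy
  obtain ⟨c, rfl⟩ := Submodule.mem_span_singleton.mp hy
  rw [map_smul, hξ, smul_eq_mul, mul_one]

end Coord

section FreeCase

variable {R : Type u} [CommRing R] {A : Type u} [CommRing A] [HopfAlgebra R A]
  [Coalgebra.IsCocomm R A] [Module.Finite R A] [Module.Projective R A]
  {A' : Type u} [CommRing A'] [HopfAlgebra R A'] [Coalgebra.IsCocomm R A']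
  [Module.Finite R A'] [Module.Projective R A']
  (p : ℕ) [hpf : Fact p.Prime] (u : R) (χ : (ZMod p)ˣ →* Rˣ)
  (hp : (toConv (AlgHom.id R A) : WithConv (A →ₐ[R] A)) ^ p = 1)
  (hp' : (toConv (AlgHom.id R A') : WithConv (A' →ₐ[R] A')) ^ p = 1)
  (hu : u * ((p - 1 : ℕ) : R) = 1)
  (hχ : ∀ m : (ZMod p)ˣ, m ≠ 1 → IsUnit ((χ m : R) - 1))
  (hχp : ∀ m : (ZMod p)ˣ, ((χ m : Rˣ) : R) - (((m : ZMod p).val : ℕ) : R) ∈
    Ideal.span ({(p : R)} : Set R))
  (hrk : ∀ q : PrimeSpectrum R, Module.rankAtStalk A q = p)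
  (hrk' : ∀ q : PrimeSpectrum R, Module.rankAtStalk A' q = p)

/-- evaluation at a point as a functional on the dual -/
noncomputable def evAt (x : A) : D R A →ₗ[R] R :=
  (Module.Dual.eval R A x) ∘ₗ (toDual R A).toLinearMap

lemma evAt_apply (x : A) (φ : D R A) : evAt x φ = φ.ofConv x := rfl

include hp hp' hu hχ hχp hrk hrk' in
theorem free_case
    (x : A) (hx : Submodule.span R {x} = OortTate.eigenAug R A p χ 1)
    (ξ : D R A) (hξ : Submodule.span R {ξ} = OortTate.eigenAug R (D R A) p χ 1)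
    (hxξ : ξ.ofConv x = 1)
    (x' : A') (hx' : Submodule.span R {x'} = OortTate.eigenAug R A' p χ 1)
    (ξ' : D R A') (hξ' : Submodule.span R {ξ'} = OortTate.eigenAug R (D R A') p χ 1)
    (hxξ' : ξ'.ofConv x' = 1)
    (α β α' β' : R) (hα : x ^ p = α • x) (hβ : ξ ^ p = β • ξ) (hα' : x' ^ p = α' • x')
    (hβ' : ξ' ^ p = β' • ξ')
    (w wi : R) (hw : w * wi = 1) (hαv : α' = w ^ (p - 1) * α) (hβv : β' = wi ^ (p - 1) * β) :
    Nonempty (A ≃ₐc[R] A') := by
  have hpp : p - 1 + 1 = p := Nat.sub_add_cancel hpf.out.one_lt.le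
  have hxmem : x ∈ OortTate.eigenAug R A p χ 1 := hx ▸ Submodule.mem_span_singleton_self x
  have hx'mem : x' ∈ OortTate.eigenAug R A' p χ 1 := hx' ▸ Submodule.mem_span_singleton_self x'
  have coordA : ∀ y ∈ OortTate.eigenAug R A p χ 1, y = ξ.ofConv y • x :=
    fun y hy => eq_smul_of_span_singleton hx ξ.ofConv hxξ hy
  have coordA' : ∀ y ∈ OortTate.eigenAug R A' p χ 1, y = ξ'.ofConv y • x' :=
    fun y hy => eq_smul_of_span_singleton hx' ξ'.ofConv hxξ' hy
  have coordD : ∀ φ ∈ OortTate.eigenAug R (D R A) p χ 1, φ = φ.ofConv x • ξ :=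
    fun φ hφ => eq_smul_of_span_singleton hξ (evAt x) hxξ hφ
  have coordD' : ∀ φ ∈ OortTate.eigenAug R (D R A') p χ 1, φ = φ.ofConv x' • ξ' :=
    fun φ hφ => eq_smul_of_span_singleton hξ' (evAt x') hxξ' hφ
  -- the isomorphism `θ`
  let θ₀ : OortTate.eigenAug R A p χ 1 →ₗ[R] OortTate.eigenAug R A' p χ 1 :=
    LinearMap.codRestrict _
      ((LinearMap.smulRight ξ.ofConv (wi • x')) ∘ₗ (OortTate.eigenAug R A p χ 1).subtype)
      (fun y => Submodule.smul_mem _ _ (Submodule.smul_mem _ _ hx'mem))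
  let θ₁ : OortTate.eigenAug R A' p χ 1 →ₗ[R] OortTate.eigenAug R A p χ 1 :=
    LinearMap.codRestrict _
      ((LinearMap.smulRight ξ'.ofConv (w • x)) ∘ₗ (OortTate.eigenAug R A' p χ 1).subtype)
      (fun y => Submodule.smul_mem _ _ (Submodule.smul_mem _ _ hxmem))
  have hθ₀ : ∀ y : OortTate.eigenAug R A p χ 1,
      ((θ₀ y : OortTate.eigenAug R A' p χ 1) : A') = ξ.ofConv (y : A) • (wi • x') := fun y => rfl
  have hθ₁ : ∀ y : OortTate.eigenAug R A' p χ 1,
      ((θ₁ y : OortTate.eigenAug R A p χ 1) : A) = ξ'.ofConv (y : A') • (w • x) := fun y => rfl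
  have hwi : wi * w = 1 := by rw [mul_comm]; exact hw
  let θ : OortTate.eigenAug R A p χ 1 ≃ₗ[R] OortTate.eigenAug R A' p χ 1 :=
    LinearEquiv.ofLinear θ₀ θ₁
      (by
        apply LinearMap.ext
        intro y
        apply Subtype.ext
        rw [LinearMap.comp_apply, hθ₀, hθ₁, map_smul, map_smul, hxξ, LinearMap.id_apply,
          smul_smul, smul_eq_mul, smul_eq_mul, mul_one, mul_assoc, hw, mul_one]
        exact (coordA' _ y.2).symm)
      (by
        apply LinearMap.ext
        intro y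
        apply Subtype.ext
        rw [LinearMap.comp_apply, hθ₁, hθ₀, map_smul, map_smul, hxξ', LinearMap.id_apply,
          smul_smul, smul_eq_mul, smul_eq_mul, mul_one, mul_assoc, hwi, mul_one]
        exact (coordA _ y.2).symm)
  have hθv : ∀ y : OortTate.eigenAug R A p χ 1,
      ((θ y : OortTate.eigenAug R A' p χ 1) : A') = ξ.ofConv (y : A) • (wi • x') := fun y => rfl
  have hwpow : wi ^ p * w ^ (p - 1) = wi := by
    conv_lhs => rw [← hpp, pow_succ]
    rw [Nat.add_sub_cancel, mul_assoc, mul_comm wi, ← mul_assoc, ← mul_pow, hwi, one_pow, one_mul]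
  apply recon p u χ hp hp' hu hχ hχp hrk hrk' θ
  · -- compatibility with `a`
    intro f g hg
    have hf : ∀ i, (f i : A) = ξ.ofConv (f i : A) • x := fun i => coordA _ (f i).2
    have h1 : (g : A) = (∏ i, ξ.ofConv (f i : A)) • (α • x) := by
      rw [hg, Finset.prod_congr rfl (fun i _ => hf i), Finset.prod_smul, Finset.prod_const,
        Finset.card_univ, Fintype.card_fin, hα]
    have h2 : ξ.ofConv (g : A) = (∏ i, ξ.ofConv (f i : A)) * α := by
      rw [h1, map_smul, map_smul, hxξ, smul_eq_mul, smul_eq_mul, mul_one]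
    rw [hθv, h2]
    have h3 : ∀ i, ((θ (f i) : OortTate.eigenAug R A' p χ 1) : A') =
        (ξ.ofConv (f i : A) * wi) • x' := by
      intro i
      rw [hθv, smul_smul]
    rw [Finset.prod_congr rfl (fun i _ => h3 i), Finset.prod_smul, Finset.prod_const,
      Finset.card_univ, Fintype.card_fin, hα', Finset.prod_mul_distrib, Finset.prod_const,
      Finset.card_univ, Fintype.card_fin, smul_smul, smul_smul, hαv]
    congr 1
    calc (∏ i, ξ.ofConv (f i : A)) * α * wi
        = (∏ i, ξ.ofConv (f i : A)) * (wi ^ p * w ^ (p - 1)) * α := by rw [hwpow]; ring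
      _ = (∏ i, ξ.ofConv (f i : A)) * wi ^ p * (w ^ (p - 1) * α) := by ring
  · -- compatibility with `b`
    intro φ φ' ψ ψ' hφ hψ hψ' y
    have hφc : ∀ i, (φ i : D R A) = (φ i : D R A).ofConv x • ξ := fun i => coordD _ (φ i).2
    have hφ'c : ∀ i, (φ' i : D R A') = (φ' i : D R A').ofConv x' • ξ' :=
      fun i => coordD' _ (φ' i).2
    have hrel : ∀ i, (φ i : D R A).ofConv x = wi * (φ' i : D R A').ofConv x' := by
      intro i
      have h1 := hφ i ⟨x, hxmem⟩
      have h2 : (φ i : D R A).ofConv x = (φ' i : D R A').ofConv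
          ((θ ⟨x, hxmem⟩ : OortTate.eigenAug R A' p χ 1) : A') := h1
      rw [hθv, map_smul, map_smul, hxξ, smul_eq_mul, smul_eq_mul, one_mul] at h2
      exact h2
    have hψv : (ψ : D R A) = (∏ i, (φ i : D R A).ofConv x) • (β • ξ) := by
      rw [hψ, Finset.prod_congr rfl (fun i _ => hφc i), Finset.prod_smul, Finset.prod_const,
        Finset.card_univ, Fintype.card_fin, hβ]
    have hψ'v : (ψ' : D R A') = (∏ i, (φ' i : D R A').ofConv x') • (β' • ξ') := by
      rw [hψ', Finset.prod_congr rfl (fun i _ => hφ'c i), Finset.prod_smul, Finset.prod_const,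
        Finset.card_univ, Fintype.card_fin, hβ']
    show (ψ : D R A).ofConv (y : A) =
      (ψ' : D R A').ofConv ((θ y : OortTate.eigenAug R A' p χ 1) : A')
    rw [hθv, hψv, hψ'v]
    have hy := coordA _ y.2
    set c := ξ.ofConv (y : A) with hc
    rw [hy]
    show (∏ i, (φ i : D R A).ofConv x) • (β • ξ.ofConv (c • x)) =
      (∏ i, (φ' i : D R A').ofConv x') • (β' • ξ'.ofConv (c • (wi • x')))
    rw [map_smul, map_smul, map_smul, hxξ, hxξ', Finset.prod_congr rfl (fun i _ => hrel i),
      Finset.prod_mul_distrib, Finset.prod_const, Finset.card_univ, Fintype.card_fin, hβv]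
    simp only [smul_eq_mul, mul_one]
    have hwp : wi ^ p = wi ^ (p - 1) * wi := by
      conv_lhs => rw [← hpp, pow_succ]
    rw [hwp]
    ring

end FreeCase

end Groth.Agent.H9.OT
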